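import Cfsg.Agent.ThCert.SimplePerm
import Cfsg.Agent.ThCert.DerivedData

/-!
The subgroup of `P` on the letters other than `t` has index 3 and is simple of order 211341312.
-/

set_option autoImplicit false
set_option Elab.async false
set_option maxRecDepth 100000
set_option linter.style.haveILetI false
set_option linter.constructorNameAsVariable false

namespace CfsgLib.ThCert

open CfsgLib.CosetEnum CfsgLib.HNCert

noncomputable section

/-- The subgroup on the letters other than `t`. -/
def LP : Subgroup P := Subgroup.closure (pg '' {x | x < 7})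

theorem prodw_mem_LP : ∀ {w : List ℕ}, (∀ x ∈ w, x < 7) → prodw pg w ∈ LP := by
  intro w
  induction w with
  | nil => intro _; rw [prodw_nil]; exact one_mem _
  | cons y w ih =>
    intro h
    rw [prodw_cons]
    exact mul_mem (Subgroup.subset_closure ⟨y, h y List.mem_cons_self, rfl⟩)
      (ih fun x hx => h x (List.mem_cons_of_mem _ hx))

/-- The exponent of `t`. -/
def tExp (w : List ℕ) : ℕ :=
  List.rec 0 (fun x _ ih => Nat.mod
    (Nat.add (bif Nat.beq x 7 then 1 else bif Nat.beq x 8 then 2 else 0) ih) 3) w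

theorem tExp_rel : ∀ w ∈ relA, tExp w = 0 := by decide +kernel

/-- The values of the generators in a group of order three. -/
def degGen : PGen → Multiplicative (ZMod 3)
  | .t => Multiplicative.ofAdd 1
  | _ => 1

theorem prodw_degGen : ∀ w : List ℕ, (∀ x ∈ w, x < 9) →
    prodw (val (ext1 degGen)) w = Multiplicative.ofAdd ((tExp w : ℕ) : ZMod 3)
  | [], _ => by rw [prodw_nil]; rfl
  | x :: w, h => by
    rw [prodw_cons, prodw_degGen w fun y hy => h y (List.mem_cons_of_mem _ hy)]
    have hx := h x List.mem_cons_self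
    show _ = Multiplicative.ofAdd ((((bif Nat.beq x 7 then 1 else bif Nat.beq x 8 then 2 else 0) +
      tExp w) % 3 : ℕ) : ZMod 3)
    rw [ZMod.natCast_mod, Nat.cast_add, ofAdd_add]
    congr 1
    interval_cases x <;> decide

theorem exists_deg : ∃ χ : P →* Multiplicative (ZMod 3), ∀ i, χ (pg i) = val (ext1 degGen) i :=
  exists_lift degGen fun w hw => by
    rw [prodw_degGen w (relA_lt w hw), tExp_rel w hw]
    rfl

/-- The exponent of `t` modulo three. -/
def deg : P →* Multiplicative (ZMod 3) := exists_deg.choose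

theorem deg_pg (i : ℕ) : deg (pg i) = val (ext1 degGen) i := exists_deg.choose_spec i

theorem LP_le_ker : LP ≤ deg.ker := by
  rw [LP, Subgroup.closure_le]
  rintro _ ⟨x, hx, rfl⟩
  show deg (pg x) = 1
  rw [deg_pg]
  replace hx : x < 7 := hx
  interval_cases x <;> decide

theorem pg_t_conj {x : ℕ} (hx : x < 7) :
    pg 7 * pg x * (pg 7)⁻¹ ∈ LP ∧ (pg 7)⁻¹ * pg x * pg 7 ∈ LP := by
  have hi : ∀ y, y < 5 → pg 7 * pg y * (pg 7)⁻¹ = pg y ∧ (pg 7)⁻¹ * pg y * pg 7 = pg y := by
    intro y hy
    have h := pg_rel [8, y, 7, y] (by interval_cases y <;> decide)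
    rw [prodw_cons, prodw_cons, prodw_cons, prodw_cons, prodw_nil, mul_one,
      show pg 8 = (pg 7)⁻¹ from rfl, inv_mul_eq_one] at h
    have h2 := pg_rel [y, y] (relA_sq y hy)
    rw [prodw_cons, prodw_cons, prodw_nil, mul_one] at h2
    have hc : pg 7 * pg y = pg y * pg 7 := by
      conv_lhs => rw [h, mul_assoc, mul_assoc, h2, mul_one]
    exact ⟨by rw [hc, mul_inv_cancel_right], by rw [mul_assoc, ← hc, inv_mul_cancel_left]⟩
  have h5 : (pg 7)⁻¹ * pg 5 * pg 7 = pg 5 * pg 5 := by
    have h := pg_rel [8, 5, 7, 6, 6] (by decide)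
    rw [prodw_cons, prodw_cons, prodw_cons, prodw_cons, prodw_cons, prodw_nil, mul_one,
      show pg 8 = (pg 7)⁻¹ from rfl, show pg 6 = (pg 5)⁻¹ from rfl] at h
    rw [← mul_inv_eq_one, mul_inv_rev]
    simpa only [mul_assoc] using h
  have m5 : pg 5 ∈ LP := Subgroup.subset_closure ⟨5, by norm_num, rfl⟩
  have ht3 : pg 7 * pg 7 * pg 7 = 1 := by
    have h := pg_rel [7, 7, 7] (by decide)
    simpa [prodw, mul_assoc] using h
  have h5' : pg 7 * pg 5 * (pg 7)⁻¹ ∈ LP := by
    have e : (pg 7)⁻¹ = pg 7 * pg 7 := inv_eq_of_mul_eq_one_right (by rw [← mul_assoc]; exact ht3)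
    have h : pg 7 * pg 5 * (pg 7)⁻¹ = (pg 7)⁻¹ * ((pg 7)⁻¹ * pg 5 * pg 7) * pg 7 := by
      calc pg 7 * pg 5 * (pg 7)⁻¹ = ((pg 7)⁻¹ * (pg 7)⁻¹) * pg 5 * (pg 7 * pg 7) := by
            rw [← mul_inv_rev, ← e, inv_inv]
        _ = _ := by simp only [mul_assoc]
    rw [h, h5]
    have e2 : (pg 7)⁻¹ * (pg 5 * pg 5) * pg 7 =
        ((pg 7)⁻¹ * pg 5 * pg 7) * ((pg 7)⁻¹ * pg 5 * pg 7) := by group
    rw [e2, h5]
    exact mul_mem (mul_mem m5 m5) (mul_mem m5 m5)
  rcases Nat.lt_or_ge x 5 with h | h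
  · rw [(hi x h).1, (hi x h).2]
    exact ⟨Subgroup.subset_closure ⟨x, hx, rfl⟩, Subgroup.subset_closure ⟨x, hx, rfl⟩⟩
  · interval_cases x
    · exact ⟨h5', h5 ▸ mul_mem m5 m5⟩
    · rw [show pg 6 = (pg 5)⁻¹ from rfl]
      refine ⟨?_, ?_⟩
      · have := inv_mem h5'
        simpa [mul_assoc] using this
      · have := inv_mem (h5.symm ▸ mul_mem m5 m5 : (pg 7)⁻¹ * pg 5 * pg 7 ∈ LP)
        simpa [mul_assoc] using this

instance LP_normal : LP.Normal := by
  have hclos : ∀ z : P, (∀ x < 7, z * pg x * z⁻¹ ∈ LP) → ∀ y ∈ LP, z * y * z⁻¹ ∈ LP := by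
    intro z hz y hy
    have : LP ≤ LP.comap (MulAut.conj z).toMonoidHom := by
      conv_lhs => rw [LP]
      rw [Subgroup.closure_le]
      rintro _ ⟨x, hx, rfl⟩
      exact hz x hx
    exact this hy
  refine ⟨fun y hy z => ?_⟩
  have hz : z ∈ Subgroup.closure (Set.range (PresentedGroup.of : PGen → P)) := by
    rw [PresentedGroup.closure_range_of]; exact Subgroup.mem_top z
  have key : ∀ a : PGen, (∀ y ∈ LP, PresentedGroup.of a * y * (PresentedGroup.of a)⁻¹ ∈ LP) ∧
      ∀ y ∈ LP, (PresentedGroup.of a)⁻¹ * y * PresentedGroup.of a ∈ LP := by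
    intro a
    cases a
    case t =>
      refine ⟨hclos _ fun x hx => (pg_t_conj hx).1, fun y hy => ?_⟩
      have := hclos (pg 7)⁻¹ (fun x hx => by rw [inv_inv]; exact (pg_t_conj hx).2) y hy
      rwa [inv_inv] at this
    all_goals
      refine ⟨fun y hy => mul_mem (mul_mem ?_ hy) (inv_mem ?_),
        fun y hy => mul_mem (mul_mem (inv_mem ?_) hy) ?_⟩ <;> first
        | exact Subgroup.subset_closure ⟨0, by norm_num, rfl⟩
        | exact Subgroup.subset_closure ⟨1, by norm_num, rfl⟩
        | exact Subgroup.subset_closure ⟨2, by norm_num, rfl⟩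
        | exact Subgroup.subset_closure ⟨3, by norm_num, rfl⟩
        | exact Subgroup.subset_closure ⟨4, by norm_num, rfl⟩
        | exact Subgroup.subset_closure ⟨5, by norm_num, rfl⟩
  revert y
  induction hz using Subgroup.closure_induction'' with
  | mem z hz => obtain ⟨a, rfl⟩ := hz; exact (key a).1
  | inv_mem z hz =>
    obtain ⟨a, rfl⟩ := hz
    intro y hy
    rw [inv_inv]
    exact (key a).2 y hy
  | one => intro y hy; simpa using hy
  | mul u v _ _ hu hv =>
    intro y hy
    have := hu _ (hv y hy)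
    simpa [mul_assoc] using this

theorem ker_le_LP : deg.ker ≤ LP := by
  have hmem : ∀ z : P, ∃ n : ℤ, z * (pg 7 ^ n)⁻¹ ∈ LP := by
    intro z
    have hz : z ∈ LP ⊔ Subgroup.zpowers (pg 7) := by
      have htop : (⊤ : Subgroup P) ≤ LP ⊔ Subgroup.zpowers (pg 7) := by
        rw [← PresentedGroup.closure_range_of, Subgroup.closure_le]
        rintro _ ⟨a, rfl⟩
        cases a
        case t => exact Subgroup.mem_sup_right (Subgroup.mem_zpowers (pg 7))
        all_goals
          refine Subgroup.mem_sup_left ?_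
          first
          | exact Subgroup.subset_closure ⟨0, by norm_num, rfl⟩
          | exact Subgroup.subset_closure ⟨1, by norm_num, rfl⟩
          | exact Subgroup.subset_closure ⟨2, by norm_num, rfl⟩
          | exact Subgroup.subset_closure ⟨3, by norm_num, rfl⟩
          | exact Subgroup.subset_closure ⟨4, by norm_num, rfl⟩
          | exact Subgroup.subset_closure ⟨5, by norm_num, rfl⟩
      exact htop (Subgroup.mem_top z)
    obtain ⟨y, hy, q, hq, rfl⟩ := Subgroup.mem_sup_of_normal_left.1 hz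
    obtain ⟨n, rfl⟩ := Subgroup.mem_zpowers_iff.1 hq
    exact ⟨n, by rwa [mul_inv_cancel_right]⟩
  intro z hz
  obtain ⟨n, hn⟩ := hmem z
  have h1 : deg (z * (pg 7 ^ n)⁻¹) = 1 := LP_le_ker hn
  rw [map_mul, show deg z = 1 from hz, one_mul, map_inv, inv_eq_one, map_zpow, deg_pg] at h1
  have h3 : ((n : ℤ) : ZMod 3) = 0 := by
    have := congrArg Multiplicative.toAdd h1
    simpa [val, ext1, degGen] using this
  obtain ⟨k, rfl⟩ := (ZMod.intCast_zmod_eq_zero_iff_dvd n 3).1 h3
  have ht3 : pg 7 ^ (3 : ℤ) = 1 := by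
    have h := pg_rel [7, 7, 7] (by decide)
    rw [show ((3 : ℤ)) = ((3 : ℕ) : ℤ) from rfl, zpow_natCast, pow_succ, pow_two]
    simpa [prodw, mul_assoc] using h
  rwa [show ((3 : ℕ) : ℤ) * k = 3 * k from rfl, zpow_mul, ht3, one_zpow, inv_one, mul_one] at hn

theorem index_LP : LP.index = 3 := by
  rw [le_antisymm LP_le_ker ker_le_LP, Subgroup.index_ker]
  have hsurj : Function.Surjective deg := by
    intro y
    refine ⟨pg 7 ^ (Multiplicative.toAdd y).val, ?_⟩
    rw [map_pow, deg_pg]
    show Multiplicative.ofAdd (1 : ZMod 3) ^ (Multiplicative.toAdd y).val = y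
    rw [← ofAdd_nsmul, nsmul_one, ZMod.natCast_rightInverse, ofAdd_toAdd]
  rw [MonoidHom.range_eq_top.2 hsurj, Subgroup.card_top,
    Nat.card_congr Multiplicative.toAdd, Nat.card_zmod]

theorem card_LP (hB : ABound) : Nat.card LP = 211341312 := by
  have h := Subgroup.card_mul_index LP
  rw [index_LP, card_P_of hB] at h
  omega

/-- A word without `t` moving `0` to a point. -/
def ptWordL (p : ℕ) : List ℕ :=
  sdec (Nat.land (Nat.shiftRight LData.ptTab (Nat.mul 96 p)) (Nat.sub (Nat.pow 2 96) 1))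

/-- A word without `t` fixing `0` and moving a point to one of the representatives. -/
def toWordL (p : ℕ) : List ℕ :=
  sdec (Nat.land (Nat.shiftRight LData.toTab (Nat.mul 96 p)) (Nat.sub (Nat.pow 2 96) 1))

/-- The two words of a point. -/
def pointOKL (p : ℕ) : Bool :=
  bif Nat.blt p 819 then
    (ptWordL p).all (fun x => Nat.blt x 7) && (Nat.beq (walk (ptWordL p) 0) p &&
      (Nat.beq p 0 || ((toWordL p).all (fun x => Nat.blt x 7) &&
        (Nat.beq (walk (toWordL p) 0) 0 &&
          (List.range 3).any fun k =>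
            Nat.beq (walk (toWordL p) p) (walk (SData.reps.getD k []) 0)))))
  else true

theorem pointL_ok : allR pointOKL 10 0 = true := by decide +kernel

theorem bExp_lt : ((List.range 3).all fun k =>
    ((SData.reps.getD k []).all fun x => Nat.blt x 7) &&
      (SData.bExp.getD k []).all fun e => match e with
        | none => true
        | some w => w.all fun x => Nat.blt x 7) = true := by decide +kernel

/-- The expression of a generator by two elements of order 13 without `t`. -/
def xOKL (t : ℕ) : Bool :=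
  (LData.xWords.getD t []).all (fun x => Nat.blt x 7) &&
    (same (List.replicate 13 (LData.xWords.getD t [])).flatten [] &&
      same (List.replicate 13 (wi (LData.xWords.getD t []) ++ [t])).flatten [])

theorem xL_ok : ∀ t < 6, xOKL t = true := by decide +kernel

theorem lt_nine_of_seven {w : List ℕ} (h : ∀ x ∈ w, x < 7) : ∀ x ∈ w, x < 9 :=
  fun x hx => Nat.lt_trans (h x hx) (by norm_num)

theorem exists_ptWordL (p : Fin 819) :
    ∃ w : List ℕ, (∀ x ∈ w, x < 7) ∧ mv pi (prodw pg w) (pt 0) = p := by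
  have h := allR_spec 10 0 pointL_ok p (Nat.zero_le _) (by omega)
  rw [pointOKL, show Nat.blt (p : ℕ) 819 = true from Nat.ble_eq_true_of_le p.isLt, cond_true,
    Bool.and_eq_true, Bool.and_eq_true] at h
  refine ⟨ptWordL p, all_lt h.1, Fin.ext ?_⟩
  rw [mv_prodw (lt_nine_of_seven (all_lt h.1)), pt_val (by norm_num)]
  exact Nat.eq_of_beq_eq_true h.2.1

/-- A subgroup containing the elements of `LP` fixing `0` and one moving it contains `LP`. -/
theorem LP_le_of_stab (hB : ABound) (T : Subgroup P)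
    (hstab : ∀ x ∈ LP, mv pi x (pt 0) = pt 0 → x ∈ T) {x : P} (hx : x ∈ T) (hxL : x ∈ LP)
    (hmove : mv pi x (pt 0) ≠ pt 0) : LP ≤ T := by
  set p := mv pi x (pt 0) with hp
  have hp0 : (p : ℕ) ≠ 0 := fun e => hmove (Fin.ext (by rw [pt_val (by norm_num)]; exact e))
  have h := allR_spec 10 0 pointL_ok p (Nat.zero_le _) (by omega)
  simp only [pointOKL, show Nat.blt (p : ℕ) 819 = true from Nat.ble_eq_true_of_le p.isLt, cond_true,
    Bool.and_eq_true, Bool.or_eq_true, List.any_eq_true, List.mem_range] at h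
  obtain ⟨-, -, h | ⟨ht, ht0, k, hk, hrep⟩⟩ := h
  · exact absurd (Nat.eq_of_beq_eq_true h) hp0
  have ht := all_lt ht
  have hb := b_ok k hk
  simp only [bOK, Bool.and_eq_true] at hb
  obtain ⟨-, hparts, hsame⟩ := hb
  have h7 := bExp_lt
  simp only [List.all_eq_true, List.mem_range, Bool.and_eq_true] at h7
  obtain ⟨hr, he7⟩ := h7 k hk
  have hr : ∀ y ∈ SData.reps.getD k [], y < 7 := fun y hy => Nat.le_of_ble_eq_true (hr y hy)
  have hrT : prodw pg (SData.reps.getD k []) ∈ T := by
    have e : mv pi (x * prodw pg (toWordL p)) (pt 0) =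
        mv pi (prodw pg (SData.reps.getD k [])) (pt 0) := by
      rw [mv_mul, ← hp]
      refine Fin.ext ?_
      rw [mv_prodw (lt_nine_of_seven ht), mv_prodw (lt_nine_of_seven hr), pt_val (by norm_num)]
      exact Nat.eq_of_beq_eq_true hrep
    have htT : prodw pg (toWordL p) ∈ T := hstab _ (prodw_mem_LP ht) (Fin.ext (by
      rw [mv_prodw (lt_nine_of_seven ht), pt_val (by norm_num)]
      exact Nat.eq_of_beq_eq_true ht0))
    have e' := hstab (x * prodw pg (toWordL p) * (prodw pg (SData.reps.getD k []))⁻¹)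
      (mul_mem (mul_mem hxL (prodw_mem_LP ht)) (inv_mem (prodw_mem_LP hr)))
      (by rw [mv_mul, e, mv_inv])
    have := mul_mem (inv_mem e') (mul_mem hx htT)
    simpa [mul_assoc] using this
  have hpart : ∀ e ∈ SData.bExp.getD k [], prodw pg (piece k e) ∈ T ∧ ∀ y ∈ piece k e, y < 9 := by
    intro e he
    cases e with
    | none => exact ⟨hrT, lt_nine_of_seven hr⟩
    | some w =>
      have hw := List.all_eq_true.1 hparts _ he
      simp only [Bool.and_eq_true] at hw
      have hw7 : ∀ y ∈ w, y < 7 := all_lt (he7 _ he)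
      exact ⟨hstab _ (prodw_mem_LP hw7) (Fin.ext (by
        show (mv pi (prodw pg w) (pt 0)).val = _
        rw [mv_prodw (lt_nine_of_seven hw7), pt_val (by norm_num)]
        exact Nat.eq_of_beq_eq_true hw.2)), lt_nine_of_seven hw7⟩
  have hbT : pg 1 ∈ T := by
    have e : prodw pg [1] = prodw pg ((SData.bExp.getD k []).flatMap (piece k)) :=
      eq_of_same_of hB (by simp) (fun y hy => by
        obtain ⟨e, he, hye⟩ := List.mem_flatMap.mp hy
        exact (hpart e he).2 y hye) hsame
    rw [prodw_cons, prodw_nil, mul_one] at e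
    rw [e]
    generalize SData.bExp.getD k [] = L at hpart
    induction L with
    | nil => rw [List.flatMap_nil, prodw_nil]; exact one_mem _
    | cons a L ih =>
      rw [List.flatMap_cons, prodw_append]
      exact mul_mem (hpart a List.mem_cons_self).1
        (ih fun z hz => hpart z (List.mem_cons_of_mem _ hz))
  rw [LP, Subgroup.closure_le]
  rintro _ ⟨y, hy, rfl⟩
  replace hy : y < 7 := hy
  by_cases h1 : y = 1
  · exact h1 ▸ hbT
  refine hstab _ (Subgroup.subset_closure ⟨y, hy, rfl⟩) (Fin.ext ?_)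
  have := mv_prodw (w := [y]) (by simp; omega) (pt 0)
  rw [prodw_cons, prodw_nil, mul_one] at this
  rw [this, pt_val (by norm_num)]
  interval_cases y
  all_goals first | exact absurd rfl h1 | decide +kernel

/-- `LP` is simple. -/
theorem isSimple_LP (hB : ABound) : IsSimpleGroup LP := by
  classical
  have := hB.1
  have : Nontrivial LP := Finite.one_lt_card_iff_nontrivial.mp (by rw [card_LP hB]; norm_num)
  refine ⟨fun K hK => ?_⟩
  by_cases hbot : K = ⊥
  · exact Or.inl hbot
  refine Or.inr ?_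
  set S : Subgroup LP :=
    ((MulAction.stabilizer (Equiv.Perm (Fin 819)) (pt 0)).comap pi).comap LP.subtype with hS
  have hmemS : ∀ x : LP, x ∈ S ↔ mv pi (x : P) (pt 0) = pt 0 := fun x => by
    rw [hS, Subgroup.mem_comap, Subgroup.mem_comap, MulAction.mem_stabilizer_iff,
      Equiv.Perm.smul_def, mv, Equiv.Perm.inv_eq_iff_eq]
    exact eq_comm
  obtain ⟨m0, hm0, hmove⟩ : ∃ m ∈ K, mv pi (m : P) (pt 0) ≠ pt 0 := by
    by_contra hcon
    push Not at hcon
    refine hbot ((Subgroup.eq_bot_iff_forall _).2 fun m hm =>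
      Subtype.ext (eq_one_of_fix hB fun p => ?_))
    obtain ⟨w, hw, rfl⟩ := exists_ptWordL p
    have h := hcon _ (hK.conj_mem m hm ⟨_, prodw_mem_LP hw⟩)
    have h' := congrArg (mv pi (prodw pg w)) h
    rw [← mv_mul] at h'
    rw [← mv_mul]
    simpa [mul_assoc] using h'
  have htop : S ⊔ K = ⊤ := by
    refine eq_top_iff.2 fun y _ => ?_
    obtain ⟨z, hz, hzy⟩ := LP_le_of_stab hB ((S ⊔ K).map LP.subtype)
      (fun x hxL hx => ⟨⟨x, hxL⟩, Subgroup.mem_sup_left ((hmemS _).2 hx), rfl⟩)
      ⟨m0, Subgroup.mem_sup_right hm0, rfl⟩ m0.2 hmove y.2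
    rwa [show z = y from Subtype.ext hzy] at hz
  have htrans : ∀ p : Fin 819, ∃ m ∈ K, mv pi (m : P) (pt 0) = p := by
    intro p
    obtain ⟨w, hw, hwp⟩ := exists_ptWordL p
    obtain ⟨y, hy, z, hz, hyz⟩ := Subgroup.mem_sup_of_normal_right.1
      (htop.symm ▸ Subgroup.mem_top (⟨prodw pg w, prodw_mem_LP hw⟩ : LP))
    refine ⟨z, hz, ?_⟩
    have hyz' : (y : P) * (z : P) = prodw pg w := congrArg Subtype.val hyz
    rw [← hyz', mv_mul, (hmemS y).1 hy] at hwp
    exact hwp
  have h819 : 819 ∣ Nat.card K := by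
    letI : MulAction K (Fin 819) := MulAction.compHom _ (pi.comp (LP.subtype.comp K.subtype))
    have horb : MulAction.orbit K (pt 0) = Set.univ := by
      refine Set.eq_univ_of_forall fun p => ?_
      obtain ⟨m, hm, hmp⟩ := htrans p
      refine ⟨⟨m⁻¹, inv_mem hm⟩, ?_⟩
      show pi ((m⁻¹ : LP) : P) (pt 0) = p
      rw [Subgroup.coe_inv, map_inv]
      exact hmp
    have h := MulAction.index_stabilizer K (pt 0)
    rw [horb, Set.ncard_univ, Nat.card_eq_fintype_card, Fintype.card_fin] at h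
    exact h ▸ Subgroup.index_dvd_card _
  have h13 : ∀ y : LP, y ^ 13 = 1 → y ∈ K := by
    intro y hy
    rw [← QuotientGroup.eq_one_iff y, ← orderOf_eq_one_iff]
    rcases (Nat.dvd_prime (show Nat.Prime 13 by norm_num)).mp (orderOf_dvd_of_pow_eq_one
      (show (y : LP ⧸ K) ^ 13 = 1 by rw [← QuotientGroup.mk_pow, hy]; rfl)) with h | h
    · exact h
    exfalso
    have hd : 13 ∣ Nat.card (LP ⧸ K) := h ▸ orderOf_dvd_natCard _
    have h169 := Nat.mul_dvd_mul hd h819
    rw [← Subgroup.card_eq_card_quotient_mul_card_subgroup, card_LP hB] at h169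
    norm_num at h169
  have key : ∀ t, ∀ ht : t < 6, (⟨pg t, Subgroup.subset_closure ⟨t, Nat.lt_trans ht (by norm_num), rfl⟩⟩ : LP) ∈ K := by
    intro t ht
    have h := xL_ok t ht
    simp only [xOKL, Bool.and_eq_true] at h
    obtain ⟨hw, h1, h2⟩ := h
    have hw7 := all_lt hw
    have hwt7 : ∀ y ∈ wi (LData.xWords.getD t []) ++ [t], y < 7 := by
      refine app_lt ?_ (by simpa using Nat.lt_trans ht (by norm_num))
      intro y hy
      obtain ⟨z, hz, rfl⟩ := List.mem_map.mp (List.mem_reverse.mp hy)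
      have := hw7 z hz
      interval_cases z <;> decide
    have e1 := eq_of_same_of hB (flatten_replicate_lt (lt_nine_of_seven hw7)) (by simp) h1
    have e2 := eq_of_same_of hB (flatten_replicate_lt (lt_nine_of_seven hwt7)) (by simp) h2
    rw [prodw_replicate, prodw_nil] at e1 e2
    have h3 := mul_mem (h13 ⟨_, prodw_mem_LP hw7⟩ (Subtype.ext e1))
      (h13 ⟨_, prodw_mem_LP hwt7⟩ (Subtype.ext e2))
    convert h3 using 1
    refine Subtype.ext ?_
    show pg t = prodw pg _ * prodw pg _
    rw [prodw_append, pg_wi (lt_nine_of_seven hw7), prodw_cons, prodw_nil, mul_one,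
      mul_inv_cancel_left]
  have hle : LP ≤ K.map LP.subtype := by
    conv_lhs => rw [LP]
    rw [Subgroup.closure_le]
    rintro _ ⟨x, hx, rfl⟩
    replace hx : x < 7 := hx
    rcases Nat.lt_or_ge x 6 with h | h
    · exact ⟨_, key x h, rfl⟩
    · obtain rfl : x = 6 := by omega
      exact ⟨_, inv_mem (key 5 (by norm_num)), rfl⟩
  refine eq_top_iff.2 fun y _ => ?_
  obtain ⟨z, hz, hzy⟩ := hle y.2
  rwa [show z = y from Subtype.ext hzy] at hz

end

end CfsgLib.ThCert
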