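import Cfsg.Agent.ThCert.Final
import Cfsg.Agent.ThCert.Derived
import Cfsg.Agent.ThompsonRep.Rep
import Cfsg.Prelude.Def_Sporadic
import Cfsg.Prelude.Def_Exceptional

/-!
The Thompson group as a group of 248 by 248 matrices over the field with three elements.
-/

set_option autoImplicit false

namespace CfsgLib.ThCert

noncomputable section

theorem exists_realization (hd : 90745943887872000 ∣ Nat.card CfsgLib.ThRep.rep.range)
    (hL : ThLarge) :
    ∃ H : Subgroup (GL (Fin 248) (ZMod 3)), Cfsg.IsTh H ∧ ∃ K : Subgroup H, K.index = 143127000 ∧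
      ∃ L : Subgroup H, L ≤ K ∧ Cfsg.Is3D4 L := by
  obtain ⟨hcard, hidx, hinj, -, -⟩ := th_exact hL
  have := finite_Th
  let r := CfsgLib.ThRep.rep.rangeRestrict
  have hr : Function.Bijective r := by
    refine CfsgLib.ThRep.rep.rangeRestrict_surjective.bijective_of_nat_card_le ?_
    rw [hcard]
    exact Nat.le_of_dvd Nat.card_pos hd
  let e : Cfsg.Spor.Th ≃* CfsgLib.ThRep.rep.range := MulEquiv.ofBijective r hr
  have hsimple := simple_Th hL
  have : Nontrivial CfsgLib.ThRep.rep.range := e.symm.toEquiv.nontrivial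
  refine ⟨CfsgLib.ThRep.rep.range, ⟨IsSimpleGroup.isSimpleGroup_of_surjective e.toMonoidHom e.surjective,
    (Nat.card_congr e.toEquiv).symm.trans hcard⟩, KH.map e.toMonoidHom, ?_,
    (LP.map emb).map e.toMonoidHom, Subgroup.map_mono ?_, ?_⟩
  · rw [show KH.map e.toMonoidHom = KH.map (e : Cfsg.Spor.Th →* CfsgLib.ThRep.rep.range) from rfl,
      Subgroup.index_map_equiv, hidx]
  · rintro _ ⟨y, -, rfl⟩
    exact ⟨y, rfl⟩
  · let f : LP ≃* (LP.map emb).map e.toMonoidHom :=
      (Subgroup.equivMapOfInjective LP emb hinj).trans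
        (Subgroup.equivMapOfInjective _ e.toMonoidHom e.injective)
    have : Nontrivial ((LP.map emb).map e.toMonoidHom) := by
      have := (isSimple_LP aBound).toNontrivial
      exact f.symm.toEquiv.nontrivial
    have := isSimple_LP aBound
    refine ⟨IsSimpleGroup.isSimpleGroup_of_surjective f.toMonoidHom f.surjective, 2,
      Nat.prime_two.isPrimePow, ?_⟩
    rw [← Nat.card_congr f.toEquiv, card_LP aBound]
    norm_num

end

end CfsgLib.ThCert
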