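import Cfsg.Agent.ThCert.Upper

/-!
When the presented group is as large as the bound, the closure is exact: the image of `P` is a copy
of `P`, its index is the sum of the sizes, and the listed orbits and stabilisers are the true ones.
-/

set_option autoImplicit false
set_option maxRecDepth 100000

namespace CfsgLib.ThCert

open CfsgLib.CosetEnum

noncomputable section

variable {U : List (List ℕ × List ℕ)} {D : Cert} {Z : Closure} {W : ℕ → List ℕ}

theorem card_KH_le (hB : ABound) : Nat.card KH ≤ 634023936 := by
  have := hB.1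
  exact (Nat.card_le_card_of_surjective _ emb.rangeRestrict_surjective).trans (card_P_of hB).le

theorem exact_of_le (H : Checked U D Z W) {n : ℕ} (hn : ∑ j : Fin Z.nS, Z.sSize j.val = n)
    (hlow : n * 634023936 ≤ Nat.card Cfsg.Spor.Th) :
    Nat.card Cfsg.Spor.Th = n * 634023936 ∧ KH.index = n ∧ Function.Injective emb ∧
      Function.Bijective (cover D Z) ∧
      ∀ j : Fin Z.nS, (SS D Z j.val).index = Z.sSize j.val := by
  obtain ⟨hfin, hle⟩ := card_le H
  have := hfin
  have := H.conj.bound.1
  rw [hn] at hle
  have hcard := le_antisymm hle hlow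
  have hnpos : 0 < n := by
    have h1 : 0 < Nat.card Cfsg.Spor.Th := Nat.card_pos
    rw [hcard] at h1
    exact Nat.pos_of_mul_pos_right h1
  have hI : KH.index ≤ n := hn ▸ index_le H
  have hK := card_KH_le H.conj.bound
  have hm := Subgroup.index_mul_card KH
  rw [hcard] at hm
  have hIn : KH.index = n := by
    refine le_antisymm hI ?_
    have : n * 634023936 ≤ KH.index * 634023936 := by
      rw [← hm]
      exact Nat.mul_le_mul_left _ hK
    exact Nat.le_of_mul_le_mul_right this (by norm_num)
  have hKc : Nat.card KH = 634023936 := by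
    rw [hIn] at hm
    exact Nat.eq_of_mul_eq_mul_left hnpos hm
  have hinj : Function.Injective emb := by
    have hb := emb.rangeRestrict_surjective.bijective_of_nat_card_le (by
      rw [card_P_of H.conj.bound]; exact hKc.ge)
    intro x y e
    exact hb.1 (Subtype.ext e)
  have hsum : ∑ j : Fin Z.nS, (SS D Z j.val).index ≤ n :=
    hn ▸ Finset.sum_le_sum fun j _ => index_SS_le H j.isLt
  have hsig : Nat.card (Σ j : Fin Z.nS, P ⧸ SS D Z j.val) = ∑ j : Fin Z.nS, (SS D Z j.val).index :=
    Nat.card_sigma
  have hcq : Nat.card (Cfsg.Spor.Th ⧸ KH) = n := hIn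
  have hbij := (cover_surjective H).bijective_of_nat_card_le (by rw [hsig, hcq]; exact hsum)
  refine ⟨hcard, hIn, hinj, hbij, fun j => le_antisymm (index_SS_le H j.isLt) ?_⟩
  have heq : ∑ j : Fin Z.nS, (SS D Z j.val).index = ∑ j : Fin Z.nS, Z.sSize j.val := by
    rw [hn, ← hsig, ← hcq]
    exact Nat.card_eq_of_bijective _ hbij
  have := (Finset.sum_eq_sum_iff_of_le (fun j _ => index_SS_le H j.isLt)).mp heq j (Finset.mem_univ _)
  exact this.ge

end

end CfsgLib.ThCert
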