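import Cfsg.Agent.ThCert.Words

/-!
The image of `P` is spanned by the first seven generators.
-/

set_option autoImplicit false

namespace CfsgLib.ThCert

open Cfsg.Spor

noncomputable section

theorem emb_of (x : PGen) : emb (PresentedGroup.of x) = PresentedGroup.of (match x with
    | .a => Th.Gen.a | .b => Th.Gen.b | .c => Th.Gen.c | .d => Th.Gen.d | .e => Th.Gen.e
    | .s => Th.Gen.s | .t => Th.Gen.t) := by
  cases x
  exacts [emb_pg (i := 0) (by norm_num), emb_pg (i := 1) (by norm_num), emb_pg (i := 2) (by norm_num),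
    emb_pg (i := 3) (by norm_num), emb_pg (i := 4) (by norm_num), emb_pg (i := 5) (by norm_num),
    emb_pg (i := 7) (by norm_num)]

theorem range_emb_eq : ((Subgroup.closure ({Th.a, Th.b, Th.c, Th.d, Th.e, Th.s, Th.t} :
    Set (FreeGroup Th.Gen))).map (PresentedGroup.mk (coxRelators Th.edges ∪ {r | r ∈ Th.extra}))) =
      emb.range := by
  rw [MonoidHom.map_closure, MonoidHom.range_eq_map, ← PresentedGroup.closure_range_of,
    MonoidHom.map_closure]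
  congr 1
  ext y
  constructor
  · rintro ⟨x, hx, rfl⟩
    simp only [Set.mem_insert_iff, Set.mem_singleton_iff] at hx
    rcases hx with rfl | rfl | rfl | rfl | rfl | rfl | rfl
    exacts [⟨_, ⟨.a, rfl⟩, emb_of .a⟩, ⟨_, ⟨.b, rfl⟩, emb_of .b⟩, ⟨_, ⟨.c, rfl⟩, emb_of .c⟩,
      ⟨_, ⟨.d, rfl⟩, emb_of .d⟩, ⟨_, ⟨.e, rfl⟩, emb_of .e⟩, ⟨_, ⟨.s, rfl⟩, emb_of .s⟩,
      ⟨_, ⟨.t, rfl⟩, emb_of .t⟩]
  · rintro ⟨_, ⟨x, rfl⟩, rfl⟩
    rw [emb_of]
    cases x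
    exacts [⟨Th.a, by simp, rfl⟩, ⟨Th.b, by simp, rfl⟩, ⟨Th.c, by simp, rfl⟩, ⟨Th.d, by simp, rfl⟩,
      ⟨Th.e, by simp, rfl⟩, ⟨Th.s, by simp, rfl⟩, ⟨Th.t, by simp, rfl⟩]

end

end CfsgLib.ThCert
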