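import Cfsg.Agent.ThCert.Perm
import Cfsg.Agent.ThCert.SepData

/-!
If `P` has at most 634023936 elements, then they are told apart by their images of four points, and
the stabiliser of the point `0` is `⟨a, c, d, e, s, t⟩`.
-/

set_option autoImplicit false
set_option Elab.async false
set_option maxRecDepth 100000

namespace CfsgLib.ThCert

open CfsgLib.CosetEnum CfsgLib.HNCert

noncomputable section

/-- `P` is at most as large as `³D₄(2):3`. -/
def ABound : Prop := Finite P ∧ Nat.card P ≤ 634023936

/-- The point of a number. -/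
def pt (i : ℕ) : Fin 819 := ⟨i % 819, Nat.mod_lt _ (by norm_num)⟩

theorem pt_val {i : ℕ} (h : i < 819) : (pt i).val = i := Nat.mod_eq_of_lt h

theorem mv_el (w : ℕ) {b : ℕ} (hb : b < 819) : (mv pi (el w) (pt b)).val = walk (dec w) b := by
  rw [el, mv_prodw (dec_lt w), pt_val hb]

/-- A chain from numbers. -/
def toC (D : List (ℕ × List ℕ)) : List (Fin 819 × List P) :=
  D.map fun e => (pt e.1, e.2.map el)

/-- The values are different from one another and from those seen. -/
def distinct (vals : List ℕ) (seen : ℕ) : Bool :=
  List.rec (fun _ => true)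
    (fun v _ ih seen => force v fun v => (bif bit seen v then false else true) &&
      force (Nat.lor seen (Nat.shiftLeft 1 v)) ih) vals seen

theorem distinct_spec : ∀ (vals : List ℕ) (seen : ℕ), distinct vals seen = true →
    vals.Nodup ∧ ∀ v ∈ vals, Nat.testBit seen v = false
  | [], _, _ => ⟨List.nodup_nil, by simp⟩
  | v :: vals, seen, h => by
    change (force v fun v => (bif bit seen v then false else true) &&
      force (Nat.lor seen (Nat.shiftLeft 1 v)) fun s => distinct vals s) = true at h
    rw [force_eq, force_eq, Bool.and_eq_true] at h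
    obtain ⟨h1, h2⟩ := h
    obtain ⟨hn, hs⟩ := distinct_spec vals _ h2
    have hv : Nat.testBit seen v = false := by
      rw [← bit_eq]
      cases hb : bit seen v
      · rfl
      · rw [hb] at h1; exact absurd h1 (by decide)
    have key : ∀ u ∈ vals, u ≠ v ∧ Nat.testBit seen u = false := by
      intro u hu
      have h := hs u hu
      change Nat.testBit (seen ||| (1 <<< v)) u = false at h
      rw [Nat.testBit_or, Bool.or_eq_false_iff, Nat.one_shiftLeft, Nat.testBit_two_pow] at h
      exact ⟨fun e => of_decide_eq_false h.2 e.symm, h.1⟩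
    refine ⟨List.nodup_cons.mpr ⟨fun hv' => (key v hv').1 rfl, hn⟩, ?_⟩
    intro u hu
    rcases List.mem_cons.mp hu with rfl | hu
    exacts [hv, (key u hu).2]

/-- The check of a chain. -/
def okC : List (ℕ × List ℕ) → Bool
  | [] => true
  | (b, L) :: D => Nat.blt b 819 && (distinct (L.map fun u => walk (dec u) b) 0 &&
      ((D.all fun e => e.2.all fun u => Nat.beq (walk (dec u) b) b) && okC D))

theorem ok_of_okC : ∀ D : List (ℕ × List ℕ), okC D = true → Ok pi (toC D)
  | [], _ => trivial
  | (b, L) :: D, h => by
    simp only [okC, Bool.and_eq_true, Nat.blt_eq, List.all_eq_true] at h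
    obtain ⟨hb, hn', hf, hD⟩ := h
    have hn := (distinct_spec _ _ hn').1
    refine ⟨?_, ?_, ok_of_okC D hD⟩
    · refine List.Nodup.of_map (fun i : Fin 819 => i.val) ?_
      rw [List.map_map, List.map_map]
      convert hn using 2
      funext u
      exact mv_el u hb
    · intro e he u hu
      obtain ⟨e', he', rfl⟩ := List.mem_map.mp he
      obtain ⟨u', hu', rfl⟩ := List.mem_map.mp hu
      refine Fin.ext ?_
      rw [mv_el u' hb, pt_val hb]
      exact Nat.eq_of_beq_eq_true (hf e' he' u' hu')

theorem size_toC : ∀ D : List (ℕ × List ℕ),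
    size (toC D) = (D.map fun e => e.2.length).prod
  | [] => rfl
  | (b, L) :: D => by
    show size (toC D) * (L.map el).length = _
    rw [size_toC D, List.length_map, List.map_cons, List.prod_cons, mul_comm]

/-- The chain of the stabiliser of `0`. -/
def stabData : List (ℕ × List ℕ) := [(40, sep1), (41, sep2), (42, sep3)]

/-- The full chain. -/
def fullData : List (ℕ × List ℕ) := (0, sep0) :: stabData

theorem full_okC : okC fullData = true := by decide +kernel

theorem full_prod : (fullData.map fun e => e.2.length).prod = 634023936 := by decide +kernel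

theorem full_ok : Ok pi (toC fullData) := ok_of_okC _ full_okC

theorem full_size : size (toC fullData) = 634023936 := by rw [size_toC, full_prod]

theorem card_P_of (hB : ABound) : Nat.card P = 634023936 := by
  have := hB.1
  refine le_antisymm hB.2 ?_
  have h := size_le (W := (⊤ : Subgroup P)) full_ok fun _ _ _ _ => Subgroup.mem_top _
  rwa [full_size, Subgroup.card_top] at h

theorem card_top_le (hB : ABound) : Nat.card (⊤ : Subgroup P) ≤ size (toC fullData) := by
  rw [full_size, Subgroup.card_top]
  exact hB.2

/-- The images of four points under a word, packed. -/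
def walk4 (w : List ℕ) (a b c d : ℕ) : ℕ :=
  List.rec (fun a b c d => Nat.add a (Nat.mul 1024 (Nat.add b (Nat.mul 1024 (Nat.add c (Nat.mul 1024 d))))))
    (fun x _ ih a b c d => force (tabOf x) fun T =>
      force (Nat.land (Nat.shiftRight T (Nat.mul 10 a)) 1023) fun a =>
      force (Nat.land (Nat.shiftRight T (Nat.mul 10 b)) 1023) fun b =>
      force (Nat.land (Nat.shiftRight T (Nat.mul 10 c)) 1023) fun c =>
      force (Nat.land (Nat.shiftRight T (Nat.mul 10 d)) 1023) fun d => ih a b c d) w a b c d

theorem walk4_eq : ∀ (w : List ℕ) (a b c d : ℕ), walk4 w a b c d =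
    walk w a + 1024 * (walk w b + 1024 * (walk w c + 1024 * walk w d))
  | [], _, _, _, _ => rfl
  | x :: w, a, b, c, d => by
    rw [walk_cons, walk_cons, walk_cons, walk_cons, ← walk4_eq w]
    show force (tabOf x) (fun T =>
      force (Nat.land (Nat.shiftRight T (Nat.mul 10 a)) 1023) fun a =>
      force (Nat.land (Nat.shiftRight T (Nat.mul 10 b)) 1023) fun b =>
      force (Nat.land (Nat.shiftRight T (Nat.mul 10 c)) 1023) fun c =>
      force (Nat.land (Nat.shiftRight T (Nat.mul 10 d)) 1023) fun d => walk4 w a b c d) = _
    rw [force_eq, force_eq, force_eq, force_eq, force_eq]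
    rfl

/-- Two words move the four base points alike. -/
def same (u v : List ℕ) : Bool := Nat.beq (walk4 u 0 40 41 42) (walk4 v 0 40 41 42)

theorem eq_of_same_of (hB : ABound) {u v : List ℕ} (hu : ∀ x ∈ u, x < 9) (hv : ∀ x ∈ v, x < 9)
    (h : same u v = true) : prodw pg u = prodw pg v := by
  have := hB.1
  refine eq_of_imgs full_ok (fun _ _ _ _ => Subgroup.mem_top _) (card_top_le hB)
    (Subgroup.mem_top _) (Subgroup.mem_top _) ?_
  refine List.map_inj_left.mpr fun e he => ?_
  obtain ⟨e', he', rfl⟩ := List.mem_map.mp he
  refine Fin.ext ?_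
  have hb : e'.1 = 0 ∨ e'.1 = 40 ∨ e'.1 = 41 ∨ e'.1 = 42 := by
    simp only [fullData, stabData, List.mem_cons, List.not_mem_nil, or_false] at he'
    rcases he' with rfl | rfl | rfl | rfl <;> simp
  have hlt : e'.1 < 819 := by omega
  show (mv pi (prodw pg u) (pt e'.1)).val = (mv pi (prodw pg v) (pt e'.1)).val
  rw [mv_prodw hu, mv_prodw hv, pt_val hlt]
  have h4 := Nat.eq_of_beq_eq_true h
  rw [walk4_eq, walk4_eq] at h4
  have := walk_lt hu (show 0 < 819 by norm_num)
  have := walk_lt hu (show 40 < 819 by norm_num)
  have := walk_lt hu (show 41 < 819 by norm_num)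
  have := walk_lt hv (show 0 < 819 by norm_num)
  have := walk_lt hv (show 40 < 819 by norm_num)
  have := walk_lt hv (show 41 < 819 by norm_num)
  rcases hb with hb | hb | hb | hb <;> rw [hb] <;> omega

theorem sep_top_one : (sep0.contains 0) = true := by decide +kernel

theorem stab_letters : stabData.all (fun e => e.2.all fun u =>
    (dec u).all fun x => Bool.not (Nat.beq x 1)) = true := by decide +kernel

/-- The stabiliser of `0` is generated by the letters other than `b`. -/
theorem mem_of_fix_zero (hB : ABound) {h : P} (hh : mv pi h (pt 0) = pt 0) :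
    h ∈ Subgroup.closure (pg '' {x | x < 9 ∧ x ≠ 1}) := by
  have := hB.1
  refine mem_of_fix (W := (⊤ : Subgroup P)) (b := pt 0) (L := sep0.map el) (C := toC stabData)
    full_ok (fun _ _ _ _ => Subgroup.mem_top _) (card_top_le hB) ?_ ?_ (Subgroup.mem_top h) hh
  · refine List.mem_map.mpr ⟨0, ?_, ?_⟩
    · simpa using sep_top_one
    · rw [el, show dec 0 = [] from rfl, prodw_nil]
  · intro e he u hu
    obtain ⟨e', he', rfl⟩ := List.mem_map.mp he
    obtain ⟨u', hu', rfl⟩ := List.mem_map.mp hu
    have h := List.all_eq_true.mp (List.all_eq_true.mp stab_letters e' he') u' hu'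
    simp only [List.all_eq_true] at h
    have key : ∀ w : List ℕ, (∀ x ∈ w, x < 9 ∧ x ≠ 1) →
        prodw pg w ∈ Subgroup.closure (pg '' {x | x < 9 ∧ x ≠ 1}) := by
      intro w
      induction w with
      | nil => intro _; rw [prodw_nil]; exact one_mem _
      | cons y w ih =>
        intro hw
        rw [prodw_cons]
        exact mul_mem (Subgroup.subset_closure ⟨y, hw y List.mem_cons_self, rfl⟩)
          (ih fun x hx => hw x (List.mem_cons_of_mem _ hx))
    exact key _ fun x hx => ⟨dec_lt _ x hx, fun e1 => by simpa [e1] using h x hx⟩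

end

end CfsgLib.ThCert
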