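import Cfsg.Agent.ThCert.CSound
import Cfsg.Agent.ThCert.Sep

/-!
The C stage: the kernel checks of the logged enumeration and their consequences, given the bound
on the order of `P`.
-/

set_option autoImplicit false
set_option maxRecDepth 100000

namespace CfsgLib.ThCert

open CfsgLib.CosetEnum

noncomputable section

theorem cfacts_all : allR (CData.log.factOK same) 12 0 = true := by decide +kernel

theorem cwords_all : wordsOK same = true := by decide +kernel

theorem ctree_all : allR twOK 7 0 = true := by decide +kernel

theorem cedges_all : allR edgeOK 11 0 = true := by decide +kernel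

theorem cloops_all : CData.loops.all (loopOK same) = true := by decide +kernel

theorem cnodeU : (leq (tW CData.nodeU) [10] && Nat.blt CData.nodeU 120) = true := by decide +kernel

theorem cchecked (hB : ABound) : CChecked same where
  same_eq _ _ hu hv h := eq_of_same_of hB hu hv h
  words := cwords_all
  facts i hi := allR_spec 12 0 cfacts_all i (Nat.zero_le _) (by
    have : CData.log.nF ≤ 4096 := by decide +kernel
    omega)
  tree k hk := allR_spec 7 0 ctree_all k (Nat.zero_le _) (by omega)
  edges i hi := allR_spec 11 0 cedges_all i (Nat.zero_le _) (by omega)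
  loops := cloops_all
  nodeU := cnodeU

theorem tW_zero (hB : ABound) : tW 0 = [] := (cchecked hB).tW_zero

theorem tW_lt (hB : ABound) {k : ℕ} (hk : k < 120) : ∀ x ∈ tW k, x < 11 := (cchecked hB).tW_lt hk

/-- The letters other than `b` permute the 120 left cosets of `Dsub`. -/
theorem ctab (hB : ABound) : ∀ k < 120, ∀ x < 11, x ≠ 1 →
    ∃ j < 120, ∃ d ∈ Dsub, g x * prodw g (tW k) = prodw g (tW j) * emb d :=
  (cchecked hB).ctab

theorem uPairs_lt (hB : ABound) : ∀ e ∈ uPairs, (∀ x ∈ e.1, x < 9) ∧ ∀ x ∈ e.2, x < 9 :=
  (cchecked hB).uPairs_lt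

theorem u_conj (hB : ABound) : ∀ e ∈ uPairs,
    (g 9)⁻¹ * emb (prodw pg e.1) * g 9 = emb (prodw pg e.2) := (cchecked hB).u_conj

end

end CfsgLib.ThCert
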