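import Cfsg.Agent.ThCert.SimplePerm
import Cfsg.Agent.ThCert.CStage

/-!
Simplicity of the presented Thompson group from its eleven suborbits on the cosets of the image of
`P`: that subgroup is maximal by the lengths of the suborbits, so a normal subgroup either lies in
it, hence in a point stabiliser of a suborbit of `P` of order 6, or supplements it.
-/

set_option autoImplicit false
set_option Elab.async false
set_option maxRecDepth 100000
set_option linter.style.haveILetI false
set_option linter.constructorNameAsVariable false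

namespace CfsgLib.ThCert

open CfsgLib.CosetEnum

noncomputable section

/-- The lengths of the suborbits. -/
def oSize (j : ℕ) : ℕ :=
  [1, 17199, 11741184, 105670656, 1304576, 2201472, 8128512, 45864, 8805888, 5031936, 179712].getD j 0

/-- The stabiliser in `P` of the right coset of the image of `P` through `b`. -/
def PS (b : Cfsg.Spor.Th) : Subgroup P :=
  ((emb.range).comap (MulAut.conj b).toMonoidHom).comap emb

theorem mem_PS {b : Cfsg.Spor.Th} {h : P} : h ∈ PS b ↔ b * emb h * b⁻¹ ∈ emb.range := Iff.rfl

/-- What the coset enumeration gives about the suborbits. -/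
structure Suborbits (base : ℕ → Cfsg.Spor.Th) : Prop where
  index_range : (emb.range).index = 143127000
  base_zero : base 0 ∈ emb.range
  cover : ∀ y : Cfsg.Spor.Th, ∃ j < 11, ∃ h : P, y * (base j * emb h)⁻¹ ∈ emb.range
  index_le : ∀ j < 11, (PS (base j)).index ≤ oSize j

/-- A set of suborbits with the first whose total length divides the degree is the first alone or
all of them. -/
theorem th_suborbit_arith : ∀ J : Finset (Fin 11), (0 : Fin 11) ∈ J →
    (∑ j ∈ J, oSize j.val) ∣ 143127000 → J = {0} ∨ J = Finset.univ := by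
  decide +kernel

theorem sum_oSize : (∑ j : Fin 11, oSize j.val) = 143127000 := by decide +kernel

namespace Suborbits

variable {base : ℕ → Cfsg.Spor.Th} (hO : Suborbits base)

/-- The cosets of the `j`th suborbit. -/
def toCoset (base : ℕ → Cfsg.Spor.Th) (x : Σ j : Fin 11, P ⧸ PS (base j)) :
    Cfsg.Spor.Th ⧸ emb.range :=
  Quotient.liftOn' x.2 (fun h => (((base x.1 * emb h⁻¹)⁻¹ : Cfsg.Spor.Th) : Cfsg.Spor.Th ⧸ emb.range))
    fun a c hac => by
      rw [QuotientGroup.leftRel_apply] at hac
      rw [QuotientGroup.eq, inv_inv]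
      have h : base x.1 * emb (a⁻¹ * c) * (base x.1)⁻¹ ∈ emb.range := hac
      have e : base x.1 * emb a⁻¹ * (base x.1 * emb c⁻¹)⁻¹ =
          base x.1 * emb (a⁻¹ * c) * (base x.1)⁻¹ := by
        simp only [map_mul, map_inv, mul_inv_rev, inv_inv, mul_assoc]
      rw [e]
      exact h

include hO

theorem surjective_toCoset : Function.Surjective (toCoset base) := by
  intro q
  induction q using QuotientGroup.induction_on with
  | _ y =>
    obtain ⟨j, hj, h, hy⟩ := hO.cover y⁻¹
    refine ⟨⟨⟨j, hj⟩, (h⁻¹ : P)⟩, ?_⟩
    show (((base j * emb h⁻¹⁻¹)⁻¹ : Cfsg.Spor.Th) : Cfsg.Spor.Th ⧸ emb.range) = _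
    rw [inv_inv, QuotientGroup.eq, inv_inv]
    have := inv_mem hy
    simpa [mul_assoc] using this

theorem card_sigma_le [Finite P] :
    Nat.card (Σ j : Fin 11, P ⧸ PS (base j)) ≤ 143127000 := by
  rw [Nat.card_sigma, ← sum_oSize]
  exact Finset.sum_le_sum fun j _ => hO.index_le j j.isLt

theorem bijective_toCoset [Finite P] : Function.Bijective (toCoset base) := by
  have hc : Nat.card (Cfsg.Spor.Th ⧸ emb.range) = 143127000 := hO.index_range
  have h1 := Nat.card_le_card_of_surjective _ hO.surjective_toCoset
  exact (Nat.bijective_iff_surjective_and_card _).2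
    ⟨hO.surjective_toCoset, le_antisymm (hc ▸ hO.card_sigma_le) h1⟩

theorem index_eq [Finite P] {j : ℕ} (hj : j < 11) : (PS (base j)).index = oSize j := by
  have h := Nat.card_congr (Equiv.ofBijective _ hO.bijective_toCoset)
  rw [Nat.card_sigma, show Nat.card (Cfsg.Spor.Th ⧸ emb.range) = _ from hO.index_range,
    ← sum_oSize] at h
  exact ((Finset.sum_eq_sum_iff_of_le fun i _ => hO.index_le i.val i.isLt).1 h) ⟨j, hj⟩
    (Finset.mem_univ _)

/-- The image of `P` is maximal. -/
theorem eq_or_eq_top [Finite P] (M : Subgroup Cfsg.Spor.Th) (hM : emb.range ≤ M) :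
    M = emb.range ∨ M = ⊤ := by
  classical
  let J : Finset (Fin 11) := Finset.univ.filter fun j => base j.val ∈ M
  have hmemJ : ∀ j : Fin 11, j ∈ J ↔ base j.val ∈ M := fun j => by simp [J]
  have hy : ∀ y : Cfsg.Spor.Th, ∃ j : Fin 11, (y ∈ M ↔ j ∈ J) ∧
      ∃ h : P, y * (base j.val * emb h)⁻¹ ∈ emb.range := by
    intro y
    obtain ⟨j, hj, h, hy⟩ := hO.cover y
    refine ⟨⟨j, hj⟩, ?_, h, hy⟩
    rw [hmemJ]
    constructor
    · intro hyM
      have := mul_mem (mul_mem (inv_mem (hM hy)) hyM) (inv_mem (hM ⟨h, rfl⟩))
      simpa [mul_assoc] using this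
    · intro hb
      have := mul_mem (hM hy) (mul_mem hb (hM ⟨h, rfl⟩))
      simpa [mul_assoc] using this
  have hrel : (emb.range).relIndex M = ∑ j ∈ J, oSize j.val := by
    have : ∀ j : Fin 11, Fintype (P ⧸ PS (base j)) := fun j => Fintype.ofFinite _
    let ι : ↥M ⧸ (emb.range).subgroupOf M → Cfsg.Spor.Th ⧸ emb.range :=
      Quotient.map' Subtype.val fun a c h => by
        rw [QuotientGroup.leftRel_apply] at h ⊢
        exact h
    have hι : Function.Injective ι := by
      intro a c h
      induction a using QuotientGroup.induction_on with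
      | _ a =>
        induction c using QuotientGroup.induction_on with
        | _ c =>
          have h' : ((a : Cfsg.Spor.Th) : Cfsg.Spor.Th ⧸ emb.range) = (c : Cfsg.Spor.Th) := h
          rw [QuotientGroup.eq] at h' ⊢
          exact h'
    have hrange : Set.range ι =
        toCoset base '' ↑(J.sigma fun j => (Finset.univ : Finset (P ⧸ PS (base j)))) := by
      ext q
      constructor
      · rintro ⟨a, rfl⟩
        obtain ⟨x, hx⟩ := hO.surjective_toCoset (ι a)
        refine ⟨x, ?_, hx⟩
        obtain ⟨j, c⟩ := x
        rw [Finset.mem_coe, Finset.mem_sigma]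
        refine ⟨(hmemJ j).2 ?_, Finset.mem_univ _⟩
        induction a using QuotientGroup.induction_on with
        | _ a =>
          induction c using QuotientGroup.induction_on with
          | _ h =>
            have hx' : (((base j.val * emb h⁻¹)⁻¹ : Cfsg.Spor.Th) : Cfsg.Spor.Th ⧸ emb.range) =
                (a : Cfsg.Spor.Th) := hx
            rw [QuotientGroup.eq, inv_inv] at hx'
            have := mul_mem (mul_mem (hM hx') (inv_mem a.2)) (hM ⟨h, rfl⟩)
            simpa [mul_assoc, map_inv] using this
      · rintro ⟨⟨j, c⟩, hx, rfl⟩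
        rw [Finset.mem_coe, Finset.mem_sigma] at hx
        induction c using QuotientGroup.induction_on with
        | _ h =>
          have hmem : (base j.val * emb h⁻¹)⁻¹ ∈ M :=
            inv_mem (mul_mem ((hmemJ j).1 hx.1) (hM ⟨h⁻¹, rfl⟩))
          exact ⟨((⟨_, hmem⟩ : ↥M) : ↥M ⧸ (emb.range).subgroupOf M), rfl⟩
    show Nat.card (↥M ⧸ (emb.range).subgroupOf M) = _
    rw [← Set.ncard_range_of_injective hι, hrange,
      Set.ncard_image_of_injective _ hO.bijective_toCoset.1, Set.ncard_coe_finset, Finset.card_sigma]
    refine Finset.sum_congr rfl fun j _ => ?_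
    rw [Finset.card_univ, ← Nat.card_eq_fintype_card]
    exact hO.index_eq j.isLt
  have hdvd : (∑ j ∈ J, oSize j.val) ∣ 143127000 := by
    rw [← hrel, ← hO.index_range, ← Subgroup.relIndex_mul_index hM]
    exact dvd_mul_right _ _
  rcases th_suborbit_arith J ((hmemJ 0).2 (hM hO.base_zero)) hdvd with hJ | hJ
  · refine Or.inl (le_antisymm (fun y hyM => ?_) hM)
    obtain ⟨j, hj, h, hh⟩ := hy y
    have h0 := hj.1 hyM
    rw [hJ, Finset.mem_singleton] at h0
    subst h0
    have := mul_mem hh (mul_mem hO.base_zero ⟨h, rfl⟩)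
    simpa [mul_assoc] using this
  · refine Or.inr (eq_top_iff.2 fun y _ => ?_)
    obtain ⟨j, hj, -⟩ := hy y
    exact hj.2 (hJ ▸ Finset.mem_univ _)

/-- A non-trivial normal subgroup is everything. -/
theorem normal_eq_top (hB : ABound)
    (N : Subgroup Cfsg.Spor.Th) [N.Normal] (hN : N ≠ ⊥) : N = ⊤ := by
  have := hB.1
  set M := N.comap emb with hMdef
  have hg : ∀ x < 9, (QuotientGroup.mk' N) (emb (pg x)) = (QuotientGroup.mk' N) (g x) :=
    fun x hx => by rw [emb_pg hx]
  rcases hO.eq_or_eq_top (N ⊔ emb.range) le_sup_right with hle | htop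
  · have hNle : N ≤ emb.range := hle ▸ le_sup_left
    have hM : M = ⊥ := by
      by_contra hM
      have hsub : M ≤ PS (base 3) := fun h hh => mem_PS.2 (hNle (‹N.Normal›.conj_mem _ hh _))
      have hc := Subgroup.card_mul_index (PS (base 3))
      rw [hO.index_eq (by norm_num), card_P_of hB, show oSize 3 = 105670656 from rfl] at hc
      have h6 : Nat.card (PS (base 3)) = 6 := by omega
      have h819 := dvd_card_of_normal hB M hM
      have := h819.trans (Subgroup.card_dvd_of_le hsub)
      rw [h6] at this
      norm_num at this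
    refine absurd ((Subgroup.eq_bot_iff_forall _).2 fun n hn => ?_) hN
    obtain ⟨p, rfl⟩ := hNle hn
    have : p ∈ M := hn
    rw [hM, Subgroup.mem_bot] at this
    rw [this, map_one]
  · by_cases hM : M = ⊥
    · exfalso
      obtain ⟨n, hn, _, ⟨w, rfl⟩, hu⟩ :=
        Subgroup.mem_sup_of_normal_left.1 (htop.symm ▸ Subgroup.mem_top (g 9))
      have hconj := u_conj hB ([1, 2, 0, 1], [4, 1, 2, 0, 1]) List.mem_cons_self
      rw [← hu] at hconj
      apply not_conj w
      have hqn : (QuotientGroup.mk' N) n = 1 := (QuotientGroup.eq_one_iff n).2 hn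
      have hq := congrArg (QuotientGroup.mk' N) hconj
      simp only [mul_inv_rev, map_mul, map_inv, hqn, inv_one, mul_one, one_mul] at hq
      rw [← map_inv, ← map_inv, ← map_mul, ← map_mul, ← map_mul, ← map_mul] at hq
      rw [QuotientGroup.mk'_apply, QuotientGroup.mk'_apply, QuotientGroup.eq] at hq
      rw [← map_inv, ← map_mul] at hq
      have hmem : (w⁻¹ * prodw pg [1, 2, 0, 1] * w)⁻¹ * prodw pg [4, 1, 2, 0, 1] ∈ M := hq
      rw [hM, Subgroup.mem_bot, inv_mul_eq_one] at hmem
      exact hmem
    · have hgen : ∀ x < 7, g x ∈ N := fun x hx => by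
        rw [← emb_pg (show x < 9 by omega)]
        exact gens_mem_of_normal hB M hM x hx
      have hq1 : ∀ x < 7, (QuotientGroup.mk' N) (g x) = 1 := fun x hx =>
        (QuotientGroup.eq_one_iff _).2 (hgen x hx)
      set T : Cfsg.Spor.Th ⧸ N := (QuotientGroup.mk' N) (g 7) with hT
      set U : Cfsg.Spor.Th ⧸ N := (QuotientGroup.mk' N) (g 9) with hU
      have hP : ∀ p : P, (QuotientGroup.mk' N) (emb p) ∈ Subgroup.zpowers T := by
        intro p
        have htopP : (⊤ : Subgroup P) ≤
            (Subgroup.zpowers T).comap ((QuotientGroup.mk' N).comp emb) := by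
          rw [← PresentedGroup.closure_range_of, Subgroup.closure_le]
          have key : ∀ x < 8, (QuotientGroup.mk' N) (emb (pg x)) ∈ Subgroup.zpowers T := by
            intro x hx
            rw [hg x (by omega)]
            by_cases h : x < 7
            · rw [hq1 x h]; exact one_mem _
            · obtain rfl : x = 7 := by omega
              exact Subgroup.mem_zpowers T
          rintro _ ⟨a, rfl⟩
          cases a
          · exact key 0 (by norm_num)
          · exact key 1 (by norm_num)
          · exact key 2 (by norm_num)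
          · exact key 3 (by norm_num)
          · exact key 4 (by norm_num)
          · exact key 5 (by norm_num)
          · exact key 7 (by norm_num)
        exact htopP (Subgroup.mem_top p)
      have hUT : U ∈ Subgroup.zpowers T := by
        obtain ⟨n, hn, _, ⟨w, rfl⟩, hu⟩ :=
          Subgroup.mem_sup_of_normal_left.1 (htop.symm ▸ Subgroup.mem_top (g 9))
        rw [hU, ← hu, map_mul, show (QuotientGroup.mk' N) n = 1 from
          (QuotientGroup.eq_one_iff n).2 hn, one_mul]
        exact hP w
      obtain ⟨z, hz⟩ := hUT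
      have hU2 : U * U = 1 := by
        have h := congrArg (QuotientGroup.mk' N) (g_rel [9, 9, 2, 0] (by decide))
        simpa only [prodw_cons, prodw_nil, mul_one, map_mul, map_one, hq1 0 (by norm_num),
          hq1 2 (by norm_num)] using h
      have hT3 : T * T * T = 1 := by
        have h := congrArg (QuotientGroup.mk' N) (g_rel [7, 7, 7] (by decide))
        simp only [prodw_cons, prodw_nil, mul_one, map_mul, map_one] at h
        rw [mul_assoc]
        exact h
      have hT2 : T * T = 1 := by
        have h := congrArg (QuotientGroup.mk' N) (g_rel [10, 7, 9, 7] (by decide))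
        simp only [prodw_cons, prodw_nil, mul_one, map_mul, map_one] at h
        rw [show g 10 = (g 9)⁻¹ from rfl, map_inv, ← hU, ← hT] at h
        have hc : T * U = U * T := by rw [← hz]; exact ((Commute.refl T).zpow_right z).eq
        rw [← mul_assoc T U T, hc, mul_assoc, inv_mul_cancel_left] at h
        exact h
      have hT1 : T = 1 := by rwa [hT2, one_mul] at hT3
      have hU1 : U = 1 := by
        rw [← hz, hT1]
        exact one_zpow z
      rw [eq_top_iff, ← PresentedGroup.closure_range_of, Subgroup.closure_le]
      rintro _ ⟨a, rfl⟩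
      cases a
      · exact hgen 0 (by norm_num)
      · exact hgen 1 (by norm_num)
      · exact hgen 2 (by norm_num)
      · exact hgen 3 (by norm_num)
      · exact hgen 4 (by norm_num)
      · exact hgen 5 (by norm_num)
      · exact (QuotientGroup.eq_one_iff _).1 hT1
      · exact (QuotientGroup.eq_one_iff _).1 hU1

/-- The presented Thompson group is simple. -/
theorem isSimple_Th (hB : ABound) (hinj : Function.Injective emb) :
    IsSimpleGroup Cfsg.Spor.Th := by
  have := hB.1
  have : Nontrivial P := Finite.one_lt_card_iff_nontrivial.mp (by rw [card_P_of hB]; norm_num)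
  have : Nontrivial Cfsg.Spor.Th := hinj.nontrivial
  exact ⟨fun N hN => by
    by_cases h : N = ⊥
    · exact Or.inl h
    · exact Or.inr (@normal_eq_top base hO hB N hN h)⟩

end Suborbits

end

end CfsgLib.ThCert
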