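import Cfsg.Agent.ThCert.Main
import Cfsg.Agent.ThCert.Exact
import Cfsg.Agent.ThCert.Simple
import Cfsg.Agent.ThCert.Gens

/-!
Order, index and simplicity of the presented group, given that it has at least
90745943887872000 elements.
-/

set_option autoImplicit false
set_option maxRecDepth 100000

namespace CfsgLib.ThCert

open CfsgLib.CosetEnum

noncomputable section

/-- The lower bound on the order. -/
def ThLarge : Prop := 90745943887872000 ≤ Nat.card Cfsg.Spor.Th

theorem th_exact (hL : ThLarge) : Nat.card Cfsg.Spor.Th = 90745943887872000 ∧
    KH.index = 143127000 ∧ Function.Injective emb ∧ Function.Bijective (cover cert clo) ∧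
      ∀ j : Fin clo.nS, (SS cert clo j.val).index = clo.sSize j.val := by
  have h := exact_of_le (n := 143127000) checked sum_sSize (by exact hL)
  exact ⟨h.1.trans (by norm_num), h.2⟩

theorem sSize_eq : ∀ j < 11, clo.sSize j = oSize j := by decide +kernel

theorem suborbits (hL : ThLarge) : Suborbits (base cert clo) where
  index_range := (th_exact hL).2.1
  base_zero := by
    rw [base, show clo.srep 0 = 0 from rfl, cert.rep_zero, prodw_nil]
    exact one_mem _
  cover y := by
    obtain ⟨j, hj, h, e⟩ := inU_all checked y
    exact ⟨j, hj, h, Q_eq.mp e⟩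
  index_le j hj := by
    rw [← sSize_eq j hj]
    exact (index_SS_le (U := uPairs) (W := tW) checked (show j < clo.nS from hj))

theorem simple_Th (hL : ThLarge) : IsSimpleGroup Cfsg.Spor.Th :=
  (suborbits hL).isSimple_Th aBound (th_exact hL).2.2.1

end

end CfsgLib.ThCert
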