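import Cfsg.Agent.ThCert.Setup
import Cfsg.Agent.ThCert.ABoundCert.ABound
import Cfsg.Agent.ThCert.ABoundCert.BBound
import Cfsg.Agent.ThCert.ABoundCert.CBound
import Cfsg.Agent.ThCert.ABoundCert.DBound

/-!
# The order of the group presented by the relators without `u`

Enumerations along the subgroups on the letters `a, …, d`, then `e`, then `s`, then `t` give at
most `336 · 36 · 17472 · 3 = 634023936` elements.
-/

set_option autoImplicit false
set_option maxRecDepth 100000

namespace CfsgLib.ThCert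

open CfsgLib.CosetEnum

noncomputable section

theorem pg_out : ∀ i, 9 ≤ i → pg i = 1
  | 9, _ => rfl
  | 10, _ => inv_one
  | _ + 11, _ => inv_one

theorem pg_sq {i : ℕ} (hi : i < 5) : pg i = (pg i)⁻¹ :=
  eq_inv_of_mul_eq_one_left (by simpa [prodw] using pg_rel _ (relA_sq i hi))

theorem pg_iv (i : ℕ) : pg (ABoundCert.A.iv i) = (pg i)⁻¹ := by
  rcases Nat.lt_or_ge i 9 with hi | hi
  · interval_cases i
    · exact pg_sq (i := 0) (by norm_num)
    · exact pg_sq (i := 1) (by norm_num)
    · exact pg_sq (i := 2) (by norm_num)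
    · exact pg_sq (i := 3) (by norm_num)
    · exact pg_sq (i := 4) (by norm_num)
    · rfl
    · exact (inv_inv _).symm
    · rfl
    · exact (inv_inv _).symm
  · have hb : ∀ k, k < 9 → Nat.beq i k = false := fun k hk => by
      cases h : Nat.beq i k
      · rfl
      · exact absurd (Nat.eq_of_beq_eq_true h) (by omega)
    rw [ABoundCert.A.iv, hb 5 (by norm_num), hb 6 (by norm_num), hb 7 (by norm_num),
      hb 8 (by norm_num)]
    simp only [cond_false, pg_out i hi, inv_one]

/-- The words of the certificates are trivial. -/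
theorem aWords_one : ∀ w ∈ ABoundCert.A.words.take 37, prodw pg w = 1 := by
  have hsplit : ∀ w ∈ ABoundCert.A.words.take 37,
      w ∈ relA ∨ (∃ x, x < 9 ∧ w = [x, ABoundCert.A.iv x]) ∨ w = [] := by
    decide +kernel
  intro w hw
  rcases hsplit w hw with h | ⟨x, -, rfl⟩ | rfl
  · exact pg_rel w h
  · rw [prodw_cons, prodw_cons, prodw_nil, mul_one, pg_iv, mul_inv_cancel]
  · exact prodw_nil _

theorem closure_pg : Subgroup.closure (pg '' {x | x < 9}) = ⊤ := by
  rw [eq_top_iff, ← PresentedGroup.closure_range_of]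
  refine Subgroup.closure_mono ?_
  rintro _ ⟨x, rfl⟩
  cases x
  exacts [⟨0, (by norm_num : (0 : ℕ) < 9), rfl⟩, ⟨1, (by norm_num : (1 : ℕ) < 9), rfl⟩,
    ⟨2, (by norm_num : (2 : ℕ) < 9), rfl⟩, ⟨3, (by norm_num : (3 : ℕ) < 9), rfl⟩,
    ⟨4, (by norm_num : (4 : ℕ) < 9), rfl⟩, ⟨5, (by norm_num : (5 : ℕ) < 9), rfl⟩,
    ⟨7, (by norm_num : (7 : ℕ) < 9), rfl⟩]

/-- `P` has at most `634023936` elements. -/
theorem P_bound : Finite P ∧ Nat.card P ≤ 634023936 := by
  let K : ℕ → Subgroup P := fun k => Subgroup.closure (pg '' {x | x < k})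
  have hmem : ∀ {x k : ℕ}, x < k → prodw pg [x] ∈ K k := by
    intro x k hx
    rw [prodw_cons, prodw_nil, mul_one]
    exact Subgroup.subset_closure ⟨x, hx, rfl⟩
  have he : pg 9 = 1 := rfl
  have hrel : ∀ (ws : List (List ℕ)), ws.take 37 = ABoundCert.A.words.take 37 → 37 ≤ ws.length →
      ∀ r, r < 37 → prodw pg (ws.getD r []) = 1 := by
    intro ws hws hl r hr
    rw [List.getD_eq_getElem _ _ (lt_of_lt_of_le hr hl)]
    exact aWords_one _ (hws ▸ List.mem_take_iff_getElem.2 ⟨r, by omega, rfl⟩)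
  have rA := hrel ABoundCert.A.words rfl (by decide)
  have rB := hrel ABoundCert.B.words (by decide +kernel) (by decide)
  have rC := hrel ABoundCert.C.words (by decide +kernel) (by decide)
  have rD := hrel ABoundCert.D.words (by decide +kernel) (by decide)
  obtain ⟨fA, cA⟩ := ABoundCert.A.bound pg (⊥ : Subgroup P) pg_iv he rA fun r hr => by
    rw [show prodw pg (ABoundCert.A.wd r) = 1 from rA r hr]; exact one_mem _
  obtain ⟨fB, cB⟩ := @ABoundCert.B.bound _ _ pg (K 4) fA pg_iv he rB fun r hr => by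
    rcases Nat.lt_or_ge r 37 with h1 | h1
    · rw [show prodw pg (ABoundCert.B.wd r) = 1 from rB r h1]; exact one_mem _
    · interval_cases r <;> exact hmem (by norm_num)
  obtain ⟨fC, cC⟩ := @ABoundCert.C.bound _ _ pg (K 5) fB pg_iv he rC fun r hr => by
    rcases Nat.lt_or_ge r 37 with h1 | h1
    · rw [show prodw pg (ABoundCert.C.wd r) = 1 from rC r h1]; exact one_mem _
    · interval_cases r <;> exact hmem (by norm_num)
  obtain ⟨fD, cD⟩ := @ABoundCert.D.bound _ _ pg (K 7) fC pg_iv he rD fun r hr => by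
    rcases Nat.lt_or_ge r 37 with h1 | h1
    · rw [show prodw pg (ABoundCert.D.wd r) = 1 from rD r h1]; exact one_mem _
    · interval_cases r <;> exact hmem (by norm_num)
  rw [Subgroup.card_bot] at cA
  rw [closure_pg] at fD cD
  rw [Subgroup.card_top] at cD
  have := fD
  refine ⟨Finite.of_equiv _ (Subgroup.topEquiv (G := P)).toEquiv, ?_⟩
  simp only [K] at cA cB cC cD
  omega

end

end CfsgLib.ThCert
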