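import Cfsg.Agent.ThCert.CStage
import Cfsg.Agent.ThCert.ABound
import Cfsg.Agent.ThCert.Check.Orbits
import Cfsg.Agent.ThCert.Check.Facts0
import Cfsg.Agent.ThCert.Check.Facts1
import Cfsg.Agent.ThCert.Check.Facts2
import Cfsg.Agent.ThCert.Check.Facts3
import Cfsg.Agent.ThCert.Check.Facts4
import Cfsg.Agent.ThCert.Check.Facts5
import Cfsg.Agent.ThCert.Check.Facts6
import Cfsg.Agent.ThCert.Check.Facts7
import Cfsg.Agent.ThCert.Check.Facts8
import Cfsg.Agent.ThCert.Check.Facts9
import Cfsg.Agent.ThCert.Check.Facts10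
import Cfsg.Agent.ThCert.Check.Facts11
import Cfsg.Agent.ThCert.Check.Facts12
import Cfsg.Agent.ThCert.Check.Facts13
import Cfsg.Agent.ThCert.Check.Facts14
import Cfsg.Agent.ThCert.Check.Facts15
import Cfsg.Agent.ThCert.Check.Paths0
import Cfsg.Agent.ThCert.Check.Paths1
import Cfsg.Agent.ThCert.Check.Paths2
import Cfsg.Agent.ThCert.Check.Paths3
import Cfsg.Agent.ThCert.Check.Paths4
import Cfsg.Agent.ThCert.Check.Paths5
import Cfsg.Agent.ThCert.Check.Paths6
import Cfsg.Agent.ThCert.Check.Paths7
import Cfsg.Agent.ThCert.Check.Paths8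
import Cfsg.Agent.ThCert.Check.Paths9
import Cfsg.Agent.ThCert.Check.Paths10
import Cfsg.Agent.ThCert.Check.Paths11
import Cfsg.Agent.ThCert.Check.Paths12

/-!
The checks put together: the right cosets of the image of `P` number at most 143127000.
-/

set_option autoImplicit false
set_option Elab.async false
set_option maxRecDepth 100000
set_option maxHeartbeats 1600000

namespace CfsgLib.ThCert

open CfsgLib.CosetEnum

noncomputable section

/-- The bound on `P`. -/
theorem aBound : ABound := P_bound

theorem DS_eq : Dsub ≤ DS := by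
  rw [Dsub, Subgroup.closure_le]
  intro x hx
  simp only [Set.mem_insert_iff, Set.mem_singleton_iff] at hx
  rcases hx with rfl | rfl | rfl | rfl | rfl | rfl <;>
    exact Subgroup.subset_closure ⟨_, ⟨by norm_num, by norm_num⟩, rfl⟩

theorem tW_no_b : allR (fun k => bif Nat.blt k 120 then (tW k).all (fun x => Bool.not (Nat.beq x 1))
    else true) 7 0 = true := by decide +kernel

theorem conj_ok : Conj uPairs := ⟨aBound, uPairs_lt aBound, u_conj aBound⟩

theorem coset_ok : CosetC tW where
  t_zero := tW_zero aBound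
  t_lt k hk x hx := by
    refine ⟨tW_lt aBound hk x hx, fun e => ?_⟩
    have h := allR_spec 7 0 tW_no_b k (Nat.zero_le _) (by omega)
    rw [show Nat.blt k 120 = true from Nat.ble_eq_true_of_le hk, cond_true] at h
    simpa [e] using List.all_eq_true.mp h x hx
  tab k hk x hx hx1 := by
    obtain ⟨j, hj, d, hd, e⟩ := ctab aBound k hk x hx hx1
    exact ⟨j, hj, d, DS_eq hd, e⟩

theorem okFact_all (i : ℕ) (hi : i < 4067) : okFact i = true := by
  rcases Nat.lt_or_ge i 64 with h | h
  · exact allR_spec 6 0 facts0_0 i (by omega) h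
  rcases Nat.lt_or_ge i 128 with h | h
  · exact allR_spec 6 64 facts0_1 i (by omega) h
  rcases Nat.lt_or_ge i 192 with h | h
  · exact allR_spec 6 128 facts0_2 i (by omega) h
  rcases Nat.lt_or_ge i 256 with h | h
  · exact allR_spec 6 192 facts0_3 i (by omega) h
  rcases Nat.lt_or_ge i 320 with h | h
  · exact allR_spec 6 256 facts1_0 i (by omega) h
  rcases Nat.lt_or_ge i 384 with h | h
  · exact allR_spec 6 320 facts1_1 i (by omega) h
  rcases Nat.lt_or_ge i 448 with h | h
  · exact allR_spec 6 384 facts1_2 i (by omega) h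
  rcases Nat.lt_or_ge i 512 with h | h
  · exact allR_spec 6 448 facts1_3 i (by omega) h
  rcases Nat.lt_or_ge i 576 with h | h
  · exact allR_spec 6 512 facts2_0 i (by omega) h
  rcases Nat.lt_or_ge i 640 with h | h
  · exact allR_spec 6 576 facts2_1 i (by omega) h
  rcases Nat.lt_or_ge i 704 with h | h
  · exact allR_spec 6 640 facts2_2 i (by omega) h
  rcases Nat.lt_or_ge i 768 with h | h
  · exact allR_spec 6 704 facts2_3 i (by omega) h
  rcases Nat.lt_or_ge i 832 with h | h
  · exact allR_spec 6 768 facts3_0 i (by omega) h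
  rcases Nat.lt_or_ge i 896 with h | h
  · exact allR_spec 6 832 facts3_1 i (by omega) h
  rcases Nat.lt_or_ge i 960 with h | h
  · exact allR_spec 6 896 facts3_2 i (by omega) h
  rcases Nat.lt_or_ge i 1024 with h | h
  · exact allR_spec 6 960 facts3_3 i (by omega) h
  rcases Nat.lt_or_ge i 1088 with h | h
  · exact allR_spec 6 1024 facts4_0 i (by omega) h
  rcases Nat.lt_or_ge i 1152 with h | h
  · exact allR_spec 6 1088 facts4_1 i (by omega) h
  rcases Nat.lt_or_ge i 1216 with h | h
  · exact allR_spec 6 1152 facts4_2 i (by omega) h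
  rcases Nat.lt_or_ge i 1280 with h | h
  · exact allR_spec 6 1216 facts4_3 i (by omega) h
  rcases Nat.lt_or_ge i 1344 with h | h
  · exact allR_spec 6 1280 facts5_0 i (by omega) h
  rcases Nat.lt_or_ge i 1408 with h | h
  · exact allR_spec 6 1344 facts5_1 i (by omega) h
  rcases Nat.lt_or_ge i 1472 with h | h
  · exact allR_spec 6 1408 facts5_2 i (by omega) h
  rcases Nat.lt_or_ge i 1536 with h | h
  · exact allR_spec 6 1472 facts5_3 i (by omega) h
  rcases Nat.lt_or_ge i 1600 with h | h
  · exact allR_spec 6 1536 facts6_0 i (by omega) h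
  rcases Nat.lt_or_ge i 1664 with h | h
  · exact allR_spec 6 1600 facts6_1 i (by omega) h
  rcases Nat.lt_or_ge i 1728 with h | h
  · exact allR_spec 6 1664 facts6_2 i (by omega) h
  rcases Nat.lt_or_ge i 1792 with h | h
  · exact allR_spec 6 1728 facts6_3 i (by omega) h
  rcases Nat.lt_or_ge i 1856 with h | h
  · exact allR_spec 6 1792 facts7_0 i (by omega) h
  rcases Nat.lt_or_ge i 1920 with h | h
  · exact allR_spec 6 1856 facts7_1 i (by omega) h
  rcases Nat.lt_or_ge i 1984 with h | h
  · exact allR_spec 6 1920 facts7_2 i (by omega) h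
  rcases Nat.lt_or_ge i 2048 with h | h
  · exact allR_spec 6 1984 facts7_3 i (by omega) h
  rcases Nat.lt_or_ge i 2112 with h | h
  · exact allR_spec 6 2048 facts8_0 i (by omega) h
  rcases Nat.lt_or_ge i 2176 with h | h
  · exact allR_spec 6 2112 facts8_1 i (by omega) h
  rcases Nat.lt_or_ge i 2240 with h | h
  · exact allR_spec 6 2176 facts8_2 i (by omega) h
  rcases Nat.lt_or_ge i 2304 with h | h
  · exact allR_spec 6 2240 facts8_3 i (by omega) h
  rcases Nat.lt_or_ge i 2368 with h | h
  · exact allR_spec 6 2304 facts9_0 i (by omega) h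
  rcases Nat.lt_or_ge i 2432 with h | h
  · exact allR_spec 6 2368 facts9_1 i (by omega) h
  rcases Nat.lt_or_ge i 2496 with h | h
  · exact allR_spec 6 2432 facts9_2 i (by omega) h
  rcases Nat.lt_or_ge i 2560 with h | h
  · exact allR_spec 6 2496 facts9_3 i (by omega) h
  rcases Nat.lt_or_ge i 2624 with h | h
  · exact allR_spec 6 2560 facts10_0 i (by omega) h
  rcases Nat.lt_or_ge i 2688 with h | h
  · exact allR_spec 6 2624 facts10_1 i (by omega) h
  rcases Nat.lt_or_ge i 2752 with h | h
  · exact allR_spec 6 2688 facts10_2 i (by omega) h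
  rcases Nat.lt_or_ge i 2816 with h | h
  · exact allR_spec 6 2752 facts10_3 i (by omega) h
  rcases Nat.lt_or_ge i 2880 with h | h
  · exact allR_spec 6 2816 facts11_0 i (by omega) h
  rcases Nat.lt_or_ge i 2944 with h | h
  · exact allR_spec 6 2880 facts11_1 i (by omega) h
  rcases Nat.lt_or_ge i 3008 with h | h
  · exact allR_spec 6 2944 facts11_2 i (by omega) h
  rcases Nat.lt_or_ge i 3072 with h | h
  · exact allR_spec 6 3008 facts11_3 i (by omega) h
  rcases Nat.lt_or_ge i 3136 with h | h
  · exact allR_spec 6 3072 facts12_0 i (by omega) h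
  rcases Nat.lt_or_ge i 3200 with h | h
  · exact allR_spec 6 3136 facts12_1 i (by omega) h
  rcases Nat.lt_or_ge i 3264 with h | h
  · exact allR_spec 6 3200 facts12_2 i (by omega) h
  rcases Nat.lt_or_ge i 3328 with h | h
  · exact allR_spec 6 3264 facts12_3 i (by omega) h
  rcases Nat.lt_or_ge i 3392 with h | h
  · exact allR_spec 6 3328 facts13_0 i (by omega) h
  rcases Nat.lt_or_ge i 3456 with h | h
  · exact allR_spec 6 3392 facts13_1 i (by omega) h
  rcases Nat.lt_or_ge i 3520 with h | h
  · exact allR_spec 6 3456 facts13_2 i (by omega) h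
  rcases Nat.lt_or_ge i 3584 with h | h
  · exact allR_spec 6 3520 facts13_3 i (by omega) h
  rcases Nat.lt_or_ge i 3648 with h | h
  · exact allR_spec 6 3584 facts14_0 i (by omega) h
  rcases Nat.lt_or_ge i 3712 with h | h
  · exact allR_spec 6 3648 facts14_1 i (by omega) h
  rcases Nat.lt_or_ge i 3776 with h | h
  · exact allR_spec 6 3712 facts14_2 i (by omega) h
  rcases Nat.lt_or_ge i 3840 with h | h
  · exact allR_spec 6 3776 facts14_3 i (by omega) h
  rcases Nat.lt_or_ge i 3904 with h | h
  · exact allR_spec 6 3840 facts15_0 i (by omega) h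
  rcases Nat.lt_or_ge i 3968 with h | h
  · exact allR_spec 6 3904 facts15_1 i (by omega) h
  rcases Nat.lt_or_ge i 4032 with h | h
  · exact allR_spec 6 3968 facts15_2 i (by omega) h
  rcases Nat.lt_or_ge i 4096 with h | h
  · exact allR_spec 6 4032 facts15_3 i (by omega) h
  omega

theorem clo_nS : clo.nS = 11 := rfl

theorem checked : Checked uPairs cert clo tW where
  facts i hi := by
    have h := okFact_all i hi
    rwa [okFact, show Nat.blt i 4067 = true from Nat.ble_eq_true_of_le hi, cond_true] at h
  orb j hj := by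
    rw [clo_nS] at hj
    interval_cases j
    exacts [orb0, orb1, orb2, orb3, orb4, orb5, orb6, orb7, orb8, orb9, orb10]
  tree j hj p hp := by
    rw [clo_nS] at hj
    interval_cases j
    · exact allR_spec 10 0 tree0 p (Nat.zero_le _) (by omega)
    · exact allR_spec 10 0 tree1 p (Nat.zero_le _) (by omega)
    · exact allR_spec 10 0 tree2 p (Nat.zero_le _) (by omega)
    · exact allR_spec 10 0 tree3 p (Nat.zero_le _) (by omega)
    · exact allR_spec 10 0 tree4 p (Nat.zero_le _) (by omega)
    · exact allR_spec 10 0 tree5 p (Nat.zero_le _) (by omega)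
    · exact allR_spec 10 0 tree6 p (Nat.zero_le _) (by omega)
    · exact allR_spec 10 0 tree7 p (Nat.zero_le _) (by omega)
    · exact allR_spec 10 0 tree8 p (Nat.zero_le _) (by omega)
    · exact allR_spec 10 0 tree9 p (Nat.zero_le _) (by omega)
    · exact allR_spec 10 0 tree10 p (Nat.zero_le _) (by omega)
  path c hc k hk := by
    have key : ∀ lo, allR (okPathAt c) 6 lo = true → lo ≤ k → k < lo + 64 →
        okPath uPairs cert clo tW c k = true := by
      intro lo h h1 h2
      have h := allR_spec 6 lo h k h1 h2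
      rwa [okPathAt, show Nat.blt k 120 = true from Nat.ble_eq_true_of_le hk, cond_true] at h
    replace hc : c < 13 := hc
    rcases Nat.lt_or_ge k 64 with h | h
    · refine key 0 ?_ (Nat.zero_le _) h
      interval_cases c
      exacts [paths0_0, paths1_0, paths2_0, paths3_0, paths4_0, paths5_0, paths6_0, paths7_0, paths8_0, paths9_0, paths10_0, paths11_0, paths12_0]
    · refine key 64 ?_ h (by omega)
      interval_cases c
      exacts [paths0_1, paths1_1, paths2_1, paths3_1, paths4_1, paths5_1, paths6_1, paths7_1, paths8_1, paths9_1, paths10_1, paths11_1, paths12_1]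
  zero := ⟨Nat.succ_pos _, rfl⟩
  conj := conj_ok
  coset := coset_ok

theorem sum_sSize : ∑ j : Fin clo.nS, clo.sSize j.val = 143127000 := by decide +kernel

/-- The presented group is finite. -/
theorem finite_Th : Finite Cfsg.Spor.Th := (card_le checked).1

theorem card_Th_le : Nat.card Cfsg.Spor.Th ≤ 90745943887872000 := by
  have h := (card_le checked).2
  rw [sum_sSize] at h
  exact h

theorem index_KH_le : KH.index ≤ 143127000 := by
  have h := index_le checked
  rwa [sum_sSize] at h

end

end CfsgLib.ThCert
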