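import Cfsg.Agent.ThCert.Setup

/-!
A checker for logged coset enumerations of a subgroup of `Th` generated by letters other than `b`
and `u`, with exact labels.

Nodes carry representatives along a tree of definitions, with the letter `11` for the empty word. A
fact `(u, x, v)` with label `l` says `cr u * x = l * cr v`; every fact is a tree edge or follows from
a cycle of earlier facts around a word whose value is known, the labels being compared by the
supplied test `same` of equality of words without `u`.
-/

set_option autoImplicit false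

namespace CfsgLib.ThCert

open CfsgLib.CosetEnum

noncomputable section

/-- The value of a letter, letters from `11` on being the empty word. -/
def gv (x : ℕ) : Cfsg.Spor.Th := if x < 11 then g x else 1

theorem g_iv {x : ℕ} (hx : x < 11) : g (iv x) = (g x)⁻¹ := by
  obtain ⟨ha, hb, hc, hd, he⟩ := invol_th
  interval_cases x
  · exact (inv_eq_of_mul_eq_one_right ha).symm
  · exact (inv_eq_of_mul_eq_one_right hb).symm
  · exact (inv_eq_of_mul_eq_one_right hc).symm
  · exact (inv_eq_of_mul_eq_one_right hd).symm
  · exact (inv_eq_of_mul_eq_one_right he).symm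
  · rfl
  · exact (inv_inv _).symm
  · rfl
  · exact (inv_inv _).symm
  · rfl
  · exact (inv_inv _).symm

theorem civ_lt {x : ℕ} (hx : x < 11) : iv x < 11 := by
  interval_cases x <;> decide

theorem iv_empty {x : ℕ} (hx : 11 ≤ x) : iv x = x := by
  match x with
  | 0 | 1 | 2 | 3 | 4 | 5 | 6 | 7 | 8 | 9 | 10 => omega
  | n + 11 => rfl

theorem gv_iv (x : ℕ) : gv (iv x) = (gv x)⁻¹ := by
  by_cases hx : x < 11
  · rw [gv, gv, if_pos hx, if_pos (civ_lt hx), g_iv hx]
  · rw [iv_empty (Nat.le_of_not_lt hx), gv, if_neg hx, inv_one]

/-- A letter of the subgroup. -/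
def isD (x : ℕ) : Bool := Nat.blt x 9 && !Nat.beq x 1

theorem isD_lt {x : ℕ} (h : isD x = true) : x < 9 := by
  simp only [isD, Bool.and_eq_true] at h
  exact Nat.le_of_ble_eq_true h.1

theorem isD_iv {x : ℕ} (h : isD x = true) : isD (iv x) = true := by
  have hx := isD_lt h
  interval_cases x <;> first | rfl | exact absurd h (by decide)

/-- All letters belong to the subgroup. -/
def allD (w : List ℕ) : Bool := List.rec true (fun x _ r => isD x && r) w

theorem allD_spec : ∀ {w : List ℕ}, allD w = true → ∀ x ∈ w, isD x = true := by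
  intro w
  induction w with
  | nil => intro _ x hx; simp at hx
  | cons y w ih =>
    intro h x hx
    have h' : (isD y && allD w) = true := h
    rw [Bool.and_eq_true] at h'
    rcases List.mem_cons.1 hx with rfl | hx
    · exact h'.1
    · exact ih h'.2 x hx

/-- The inverse word. -/
def invw (w : List ℕ) : List ℕ := (w.map iv).reverse

theorem prodw_invw : ∀ {w : List ℕ}, (∀ x ∈ w, x < 11) →
    prodw g (invw w) = (prodw g w)⁻¹ := by
  intro w
  induction w with
  | nil => intro _; simp [invw, prodw]
  | cons y w ih =>
    intro h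
    have e : invw (y :: w) = invw w ++ [iv y] := by simp [invw]
    rw [e, prodw_append, ih fun x hx => h x (List.mem_cons_of_mem y hx)]
    simp [prodw_cons, prodw_nil, g_iv (h y List.mem_cons_self), mul_inv_rev]

theorem invw_isD {w : List ℕ} (h : ∀ x ∈ w, isD x = true) : ∀ x ∈ invw w, isD x = true := by
  intro x hx
  simp only [invw, List.mem_reverse, List.mem_map] at hx
  obtain ⟨y, hy, rfl⟩ := hx
  exact isD_iv (h y hy)

/-- Append a letter to a reduced word kept backwards. -/
def push (x : ℕ) (st : List ℕ) : List ℕ :=
  bif Nat.blt x 11 then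
    List.rec (motive := fun _ => List ℕ) [x]
      (fun y r _ => bif Nat.beq y (iv x) then r else x :: y :: r) st
  else st

/-- The product of a word kept backwards. -/
def rv (st : List ℕ) : Cfsg.Spor.Th := prodw g st.reverse

theorem rv_push (x : ℕ) (st : List ℕ) : rv (push x st) = rv st * gv x := by
  unfold push gv
  by_cases hx : x < 11
  · rw [show Nat.blt x 11 = true from Nat.ble_eq_true_of_le hx]
    simp only [cond_true, if_pos hx]
    cases st with
    | nil => simp [rv, prodw]
    | cons y r =>
      show rv (bif Nat.beq y (iv x) then r else x :: y :: r) = _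
      cases h : Nat.beq y (iv x)
      · simp [rv, prodw, mul_assoc]
      · obtain rfl := Nat.eq_of_beq_eq_true h
        simp [rv, prodw, g_iv hx, mul_assoc]
  · rw [show Nat.blt x 11 = false by
      cases h : Nat.blt x 11
      · rfl
      · exact absurd (Nat.le_of_ble_eq_true h) hx]
    simp [if_neg hx]

/-- Free reduction, backwards. -/
def redRev (w : List ℕ) (st : List ℕ) : List ℕ :=
  List.rec (motive := fun _ => List ℕ → List ℕ) (fun st => st) (fun x _ ih st => ih (push x st)) w st

theorem rv_redRev : ∀ (w st : List ℕ), (∀ x ∈ w, x < 11) →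
    rv (redRev w st) = rv st * prodw g w := by
  intro w
  induction w with
  | nil => intro st _; simp [redRev, prodw]
  | cons x w ih =>
    intro st h
    show rv (redRev w (push x st)) = _
    rw [ih _ fun y hy => h y (List.mem_cons_of_mem x hy), rv_push, prodw_cons, gv,
      if_pos (h x List.mem_cons_self), mul_assoc]

/-- Equality of lists of numbers. -/
def leq (a b : List ℕ) : Bool :=
  List.rec (motive := fun _ => List ℕ → Bool)
    (fun b => List.rec (motive := fun _ => Bool) true (fun _ _ _ => false) b)
    (fun x _ ih b => List.rec (motive := fun _ => Bool) false (fun y r _ => Nat.beq x y && ih r) b)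
    a b

theorem leq_eq : ∀ a b : List ℕ, leq a b = true → a = b := by
  intro a
  induction a with
  | nil => intro b h; cases b with
    | nil => rfl
    | cons y r => exact absurd h Bool.false_ne_true
  | cons x a ih => intro b h; cases b with
    | nil => exact absurd h Bool.false_ne_true
    | cons y r =>
      have h' : (Nat.beq x y && leq a r) = true := h
      rw [Bool.and_eq_true] at h'
      rw [Nat.eq_of_beq_eq_true h'.1, ih r h'.2]

/-- Source of a packed fact. -/
def fU (f : ℕ) : ℕ := Nat.land f 65535
/-- Target of a packed fact. -/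
def fV (f : ℕ) : ℕ := Nat.land (Nat.shiftRight f 16) 65535
/-- Letter of a packed fact. -/
def fL (f : ℕ) : ℕ := Nat.land (Nat.shiftRight f 32) 255

/-- The data of a log. -/
structure CLog where
  /-- number of nodes -/
  N : ℕ
  /-- number of facts -/
  nF : ℕ
  /-- number of words equal to one -/
  nR : ℕ
  /-- words equal to one, then words of the subgroup -/
  words : List (List ℕ)
  /-- parent of a node -/
  parN : ℕ → ℕ
  /-- letter of a tree edge -/
  parX : ℕ → ℕ
  /-- packed fact -/
  fct : ℕ → ℕ
  /-- label of a fact -/
  lab : ℕ → List ℕ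
  /-- start node of the cycle proving a fact -/
  base : ℕ → ℕ
  /-- word of the cycle proving a fact -/
  wrd : ℕ → ℕ
  /-- references before the gap -/
  pre : ℕ → List ℕ
  /-- references after the gap -/
  post : ℕ → List ℕ

namespace CLog

variable (L : CLog)

/-- Start node of an oriented reference. -/
def src (r : ℕ) : ℕ :=
  bif Nat.beq (Nat.land r 1) 0 then fU (L.fct (Nat.shiftRight r 1))
  else fV (L.fct (Nat.shiftRight r 1))

/-- End node of an oriented reference. -/
def tgt (r : ℕ) : ℕ :=
  bif Nat.beq (Nat.land r 1) 0 then fV (L.fct (Nat.shiftRight r 1))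
  else fU (L.fct (Nat.shiftRight r 1))

/-- Letter of an oriented reference. -/
def let' (r : ℕ) : ℕ :=
  bif Nat.beq (Nat.land r 1) 0 then fL (L.fct (Nat.shiftRight r 1))
  else iv (fL (L.fct (Nat.shiftRight r 1)))

/-- Label of an oriented reference. -/
def lab' (r : ℕ) : List ℕ :=
  bif Nat.beq (Nat.land r 1) 0 then L.lab (Nat.shiftRight r 1)
  else invw (L.lab (Nat.shiftRight r 1))

/-- Follow references: end node, word read and product of the labels. -/
def follow (bd : ℕ) (refs : List ℕ) (a : ℕ) (st : List ℕ) : Option (ℕ × List ℕ × List ℕ) :=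
  List.rec (motive := fun _ => ℕ → List ℕ → Option (ℕ × List ℕ × List ℕ))
    (fun a st => some (a, st, []))
    (fun r _ ih a st => bif Nat.blt (Nat.shiftRight r 1) bd && Nat.beq (L.src r) a then
      force (L.tgt r) fun b => force (L.let' r) fun x =>
        match ih b (push x st) with
        | some (e, s, l) => some (e, s, L.lab' r ++ l)
        | none => none
      else none)
    refs a st

variable (same : List ℕ → List ℕ → Bool)

/-- Check a fact which is not a tree edge. -/
def cycleOK (i : ℕ) : Bool :=
  (Nat.blt (L.wrd i) L.nR ||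
    (Nat.beq (L.base i) 0 && allD (L.words.getD (L.wrd i) []))) &&
  match L.follow i (L.pre i) (L.base i) [] with
  | some (a, st, l1) =>
    Nat.beq a (fU (L.fct i)) &&
      match L.follow i (L.post i) (fV (L.fct i)) (push (fL (L.fct i)) st) with
      | some (e, st', l2) =>
        Nat.beq e (L.base i) && leq st' (redRev (L.words.getD (L.wrd i) []) []) &&
          same (l1 ++ L.lab i ++ l2)
            (bif Nat.blt (L.wrd i) L.nR then [] else L.words.getD (L.wrd i) [])
      | none => false
  | none => false

/-- Check a tree edge. -/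
def treeOKAt (i : ℕ) : Bool :=
  Nat.blt (L.parN (Nat.add i 1)) (Nat.add i 1) &&
    (Nat.beq (fU (L.fct i)) (L.parN (Nat.add i 1)) &&
      (Nat.beq (fL (L.fct i)) (L.parX (Nat.add i 1)) &&
        (Nat.beq (fV (L.fct i)) (Nat.add i 1) && leq (L.lab i) [])))

/-- Check a fact. -/
def factOK (i : ℕ) : Bool :=
  bif Nat.blt i L.nF then
    allD (L.lab i) &&
      bif Nat.blt i (Nat.sub L.N 1) then L.treeOKAt i else L.cycleOK same i
  else true

/-- Representative of a node. -/
def cr (i : ℕ) : Cfsg.Spor.Th :=
  if _h : 0 < i ∧ L.parN i < i then cr (L.parN i) * gv (L.parX i) else 1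
termination_by i

theorem cr_zero : L.cr 0 = 1 := by
  rw [cr, dif_neg]; simp

theorem cr_step {i : ℕ} (h0 : 0 < i) (h : L.parN i < i) :
    L.cr i = L.cr (L.parN i) * gv (L.parX i) := by
  rw [cr, dif_pos ⟨h0, h⟩]

/-- Meaning of a fact. -/
def Good (i : ℕ) : Prop :=
  (∀ x ∈ L.lab i, isD x = true) ∧
    L.cr (fU (L.fct i)) * gv (fL (L.fct i)) = prodw g (L.lab i) * L.cr (fV (L.fct i))

theorem ref_sound {r : ℕ} (h : L.Good (Nat.shiftRight r 1)) :
    (∀ x ∈ L.lab' r, isD x = true) ∧
      L.cr (L.src r) * gv (L.let' r) = prodw g (L.lab' r) * L.cr (L.tgt r) := by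
  obtain ⟨hl, he⟩ := h
  unfold src tgt let' lab'
  cases Nat.beq (Nat.land r 1) 0
  · simp only [cond_false]
    refine ⟨invw_isD hl, ?_⟩
    rw [gv_iv, prodw_invw fun x hx => by have := isD_lt (hl x hx); omega, eq_inv_mul_iff_mul_eq,
      ← mul_assoc, ← he, mul_inv_cancel_right]
  · exact ⟨hl, he⟩

theorem follow_sound {bd : ℕ} (hbd : ∀ i < bd, L.Good i) :
    ∀ (refs : List ℕ) (a : ℕ) (st : List ℕ) (e : ℕ) (st' l : List ℕ),
      L.follow bd refs a st = some (e, st', l) →
        (∀ x ∈ l, isD x = true) ∧
          L.cr a * (rv st)⁻¹ * rv st' = prodw g l * L.cr e := by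
  intro refs
  induction refs with
  | nil =>
    intro a st e st' l h
    have h' : (some (a, st, []) : Option (ℕ × List ℕ × List ℕ)) = some (e, st', l) := h
    simp only [Option.some.injEq, Prod.mk.injEq] at h'
    obtain ⟨rfl, rfl, rfl⟩ := h'
    simp [prodw]
  | cons r refs ih =>
    intro a st e st' l h
    change (bif Nat.blt (Nat.shiftRight r 1) bd && Nat.beq (L.src r) a then
      force (L.tgt r) fun b => force (L.let' r) fun x =>
        match L.follow bd refs b (push x st) with
        | some (e, s, l) => some (e, s, L.lab' r ++ l)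
        | none => none
      else none) = _ at h
    simp only [force_eq] at h
    cases hc : Nat.blt (Nat.shiftRight r 1) bd && Nat.beq (L.src r) a
    · rw [hc] at h; exact absurd h (by simp)
    rw [hc, cond_true] at h
    rw [Bool.and_eq_true] at hc
    obtain ⟨hlr, her⟩ := L.ref_sound (hbd _ (Nat.le_of_ble_eq_true hc.1))
    rw [Nat.eq_of_beq_eq_true hc.2] at her
    cases hf : L.follow bd refs (L.tgt r) (push (L.let' r) st) with
    | none => rw [hf] at h; exact absurd h (by simp)
    | some p =>
      obtain ⟨e1, s1, l1⟩ := p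
      rw [hf] at h
      simp only [Option.some.injEq, Prod.mk.injEq] at h
      obtain ⟨rfl, rfl, rfl⟩ := h
      obtain ⟨hl1, he1⟩ := ih _ _ _ _ _ hf
      refine ⟨fun x hx => ?_, ?_⟩
      · rcases List.mem_append.1 hx with hx | hx
        · exact hlr x hx
        · exact hl1 x hx
      · rw [prodw_append, mul_assoc (prodw g _) (prodw g _), ← he1, rv_push]
        have e2 : L.cr a = prodw g (L.lab' r) * L.cr (L.tgt r) * (gv (L.let' r))⁻¹ := by
          rw [← her, mul_inv_cancel_right]
        rw [e2]
        group

/-- What is assumed of the words and of the test. -/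
structure Valid : Prop where
  word_lt : ∀ w ∈ L.words, ∀ x ∈ w, x < 11
  word_one : ∀ w ∈ L.words.take L.nR, prodw g w = 1
  same_eq : ∀ u v : List ℕ, (∀ x ∈ u, x < 9) → (∀ x ∈ v, x < 9) → same u v = true →
    prodw g u = prodw g v

variable {L same}

theorem factOK_sound (hV : L.Valid same) {i : ℕ} (hi : i < L.nF) (h : L.factOK same i = true)
    (IH : ∀ j < i, L.Good j) : L.Good i := by
  rw [factOK, show Nat.blt i L.nF = true from Nat.ble_eq_true_of_le hi, cond_true,
    Bool.and_eq_true] at h
  obtain ⟨hlab, h⟩ := h
  have hlab := allD_spec hlab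
  refine ⟨hlab, ?_⟩
  cases ht : Nat.blt i (Nat.sub L.N 1)
  · rw [ht, cond_false, cycleOK, Bool.and_eq_true] at h
    obtain ⟨hw, h⟩ := h
    cases hf1 : L.follow i (L.pre i) (L.base i) [] with
    | none => rw [hf1] at h; simp at h
    | some p =>
      obtain ⟨a, st, l1⟩ := p
      rw [hf1] at h
      simp only [Bool.and_eq_true] at h
      obtain ⟨ha, h⟩ := h
      obtain rfl := Nat.eq_of_beq_eq_true ha
      cases hf2 : L.follow i (L.post i) (fV (L.fct i)) (push (fL (L.fct i)) st) with
      | none => rw [hf2] at h; simp at h
      | some p =>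
        obtain ⟨e, st', l2⟩ := p
        rw [hf2] at h
        simp only [Bool.and_eq_true] at h
        obtain ⟨⟨he, hst⟩, hsame⟩ := h
        obtain rfl := Nat.eq_of_beq_eq_true he
        obtain rfl := leq_eq _ _ hst
        obtain ⟨hl1, he1⟩ := L.follow_sound IH _ _ _ _ _ _ hf1
        obtain ⟨hl2, he2⟩ := L.follow_sound IH _ _ _ _ _ _ hf2
        have hwlt : ∀ x ∈ L.words.getD (L.wrd i) [], x < 11 := by
          intro x hx
          by_cases hj : L.wrd i < L.words.length
          · rw [List.getD_eq_getElem _ _ hj] at hx
            exact hV.word_lt _ (List.getElem_mem hj) x hx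
          · rw [List.getD_eq_default _ _ (Nat.le_of_not_lt hj)] at hx
            simp at hx
        rw [rv_push, rv_redRev _ _ hwlt] at he2
        simp only [rv, List.reverse_nil, prodw_nil, inv_one, mul_one, one_mul] at he1 he2
        have hall : ∀ x ∈ l1 ++ L.lab i ++ l2, x < 9 := by
          intro x hx
          simp only [List.mem_append] at hx
          rcases hx with (hx | hx) | hx
          · exact isD_lt (hl1 x hx)
          · exact isD_lt (hlab x hx)
          · exact isD_lt (hl2 x hx)
        have key : prodw g l1 * prodw g (L.lab i) * prodw g l2 =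
            (L.cr (L.base i) * prodw g (L.words.getD (L.wrd i) []) * (L.cr (L.base i))⁻¹) := by
          cases hn : Nat.blt (L.wrd i) L.nR
          · rw [hn, Bool.false_or, Bool.and_eq_true] at hw
            rw [hn, cond_false] at hsame
            have e := hV.same_eq _ _ hall (fun x hx => isD_lt (allD_spec hw.2 x hx)) hsame
            rw [prodw_append, prodw_append] at e
            rw [e, Nat.eq_of_beq_eq_true hw.1, L.cr_zero, inv_one, one_mul, mul_one]
          · have hlt : L.wrd i < L.nR := Nat.le_of_ble_eq_true hn
            rw [hn, cond_true] at hsame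
            have e := hV.same_eq _ _ hall (fun x hx => by simp at hx) hsame
            rw [prodw_append, prodw_append] at e
            have e1 : prodw g (L.words.getD (L.wrd i) []) = 1 := by
              by_cases hj : L.wrd i < L.words.length
              · rw [List.getD_eq_getElem _ _ hj]
                refine hV.word_one _ (List.mem_take_iff_getElem.2 ⟨L.wrd i, by omega, ?_⟩)
                rfl
              · rw [List.getD_eq_default _ _ (Nat.le_of_not_lt hj)]; simp [prodw]
            rw [e, e1, mul_one, mul_inv_cancel]; simp [prodw]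
        -- solve the cycle for the gap
        have eV : L.cr (fV (L.fct i)) =
            prodw g l2 * L.cr (L.base i) * (prodw g (L.words.getD (L.wrd i) []))⁻¹ *
              (prodw g st.reverse * gv (fL (L.fct i))) := by
          rw [← he2]; group
        have eU : L.cr (fU (L.fct i)) =
            (prodw g l1)⁻¹ * (L.cr (L.base i) * prodw g st.reverse) := by
          rw [he1]; group
        have hlabeq : prodw g (L.lab i) = (prodw g l1)⁻¹ *
            (L.cr (L.base i) * prodw g (L.words.getD (L.wrd i) []) * (L.cr (L.base i))⁻¹) *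
              (prodw g l2)⁻¹ := by
          rw [← key]; group
        rw [eV, eU, hlabeq]
        group
  · rw [ht, cond_true, treeOKAt] at h
    simp only [Bool.and_eq_true] at h
    obtain ⟨hp, hu, hl, hv, hz⟩ := h
    have hp : L.parN (i + 1) < i + 1 := Nat.le_of_ble_eq_true hp
    rw [Nat.eq_of_beq_eq_true hu, Nat.eq_of_beq_eq_true hl, Nat.eq_of_beq_eq_true hv, leq_eq _ _ hz]
    show L.cr (L.parN (i + 1)) * gv (L.parX (i + 1)) = prodw g [] * L.cr (i + 1)
    rw [L.cr_step (Nat.succ_pos i) hp, prodw_nil, one_mul]

/-- All facts of a checked log hold. -/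
theorem good (hV : L.Valid same) (h : ∀ i < L.nF, L.factOK same i = true) :
    ∀ i < L.nF, L.Good i := by
  intro i
  induction i using Nat.strong_induction_on with
  | _ i ih => exact fun hi => factOK_sound hV hi (h i hi) fun j hj => ih j hj (by omega)

/-- A checked path of facts with a prescribed word. -/
def pathOK (L : CLog) (a b : ℕ) (refs w : List ℕ) : Bool :=
  match L.follow L.nF refs a [] with
  | some (e, st, _) => Nat.beq e b && leq st (redRev w [])
  | none => false

theorem pathOK_sound (hV : L.Valid same) (h : ∀ i < L.nF, L.factOK same i = true) {a b : ℕ}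
    {refs w : List ℕ} (hw : ∀ x ∈ w, x < 11) (hp : L.pathOK a b refs w = true) :
    ∃ l : List ℕ, (∃ e st, L.follow L.nF refs a [] = some (e, st, l)) ∧
      (∀ x ∈ l, isD x = true) ∧ L.cr a * prodw g w = prodw g l * L.cr b := by
  unfold pathOK at hp
  cases hf : L.follow L.nF refs a [] with
  | none => rw [hf] at hp; simp at hp
  | some p =>
    obtain ⟨e, st, l⟩ := p
    rw [hf] at hp
    simp only [Bool.and_eq_true] at hp
    obtain rfl := Nat.eq_of_beq_eq_true hp.1
    obtain rfl := leq_eq _ _ hp.2
    obtain ⟨hl, he⟩ := L.follow_sound (good hV h) _ _ _ _ _ _ hf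
    rw [rv_redRev _ _ hw] at he
    simp only [rv, List.reverse_nil, prodw_nil, inv_one, mul_one, one_mul] at he
    exact ⟨l, ⟨_, _, rfl⟩, hl, he⟩

end CLog

end

end CfsgLib.ThCert
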