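import Cfsg.Agent.ThCert.CData

/-!
What the logged enumeration gives: the action of the letters on the 120 left cosets of
`⟨a, c, d, e, s, t⟩` in `⟨a, c, d, e, s, t, u⟩` and elements conjugated into `P` by `u`, given that
the checks succeed.
-/

set_option autoImplicit false

namespace CfsgLib.ThCert

open CfsgLib.CosetEnum

noncomputable section

/-- The subgroup `⟨a, c, d, e, s, t⟩` of `P`. -/
def Dsub : Subgroup P := Subgroup.closure {pg 0, pg 2, pg 3, pg 4, pg 5, pg 7}

theorem pg_mem_Dsub {x : ℕ} (h : isD x = true) : pg x ∈ Dsub := by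
  have hs : pg 5 ∈ Dsub := Subgroup.subset_closure (by simp)
  have ht : pg 7 ∈ Dsub := Subgroup.subset_closure (by simp)
  have hx := isD_lt h
  interval_cases x
  all_goals first
    | exact absurd h (by decide)
    | exact inv_mem hs
    | exact inv_mem ht
    | exact Subgroup.subset_closure (by simp)

theorem prodw_mem_Dsub : ∀ {w : List ℕ}, (∀ x ∈ w, isD x = true) → prodw pg w ∈ Dsub := by
  intro w
  induction w with
  | nil => intro _; simp [prodw]
  | cons y w ih =>
    intro h
    rw [prodw_cons]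
    exact mul_mem (pg_mem_Dsub (h y List.mem_cons_self))
      (ih fun x hx => h x (List.mem_cons_of_mem y hx))

/-- The left coset words. -/
def tW (k : ℕ) : List ℕ := CData.decode (CData.twTab k)

/-- A word known to be one: it is a relator up to free cancellation, or it is trivial in `P`. -/
def oneOK (same : List ℕ → List ℕ → Bool) (w : List ℕ) : Bool :=
  leq w [] || ((relA ++ relU).any (fun r => leq (redRev r []) (redRev w [])) ||
    (w.all (fun x => Nat.blt x 9) && same w []))

/-- All words of the log are made of letters and those required to be one are so. -/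
def wordsOK (same : List ℕ → List ℕ → Bool) : Bool :=
  CData.words.all (fun w => w.all fun x => Nat.blt x 11) &&
    (CData.words.take CData.log.nR).all (oneOK same)

/-- The word of a coset agrees with the tree. -/
def twOK (k : ℕ) : Bool :=
  bif Nat.blt k 120 then
    (tW k).all (fun x => Nat.blt x 11) &&
      bif Nat.beq k 0 then leq (tW k) [] else
        Nat.blt (CData.log.parN k) k && (Nat.blt (CData.log.parX k) 11 &&
          leq (tW k) (iv (CData.log.parX k) :: tW (CData.log.parN k)))
  else true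

/-- An edge of the table, `i = 10 k + j`. -/
def edgeOK (i : ℕ) : Bool :=
  bif Nat.blt i 1200 then
    Nat.blt (CData.dest (Nat.div i 10) (Nat.mod i 10)) 120 &&
      CData.log.pathOK (Nat.div i 10) (CData.dest (Nat.div i 10) (Nat.mod i 10))
        (CData.epath (Nat.div i 10) (Nat.mod i 10)) [iv (CData.keep (Nat.mod i 10))]
  else true

/-- A loop at the coset of `u` with its label. -/
def loopOK (same : List ℕ → List ℕ → Bool) (e : (ℕ × ℕ) × List ℕ × List ℕ) : Bool :=
  allD e.2.1 && (e.2.2.all (fun x => Nat.blt x 9) &&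
    match CData.log.follow CData.log.nF (CData.refs e.1.1 e.1.2) CData.nodeU [] with
    | some (a, st, l) =>
      Nat.beq a CData.nodeU && (leq st (redRev e.2.2 []) && same e.2.1 l)
    | none => false)

/-- Elements of `P` conjugated into `P` by `u`. -/
def uPairs : List (List ℕ × List ℕ) :=
  ([1, 2, 0, 1], [4, 1, 2, 0, 1]) :: CData.loops.map fun e => (e.2.1, e.2.2)

/-- The checks. -/
structure CChecked (same : List ℕ → List ℕ → Bool) : Prop where
  same_eq : ∀ u v : List ℕ, (∀ x ∈ u, x < 9) → (∀ x ∈ v, x < 9) → same u v = true →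
    prodw pg u = prodw pg v
  words : wordsOK same = true
  facts : ∀ i < CData.log.nF, CData.log.factOK same i = true
  tree : ∀ k < 120, twOK k = true
  edges : ∀ i < 1200, edgeOK i = true
  loops : CData.loops.all (loopOK same) = true
  nodeU : (leq (tW CData.nodeU) [10] && Nat.blt CData.nodeU 120) = true

theorem rel_lt : ∀ w ∈ relA ++ relU, ∀ i ∈ w, i < 11 := by decide +kernel

theorem rv_nil : rv [] = 1 := by simp [rv, prodw]

namespace CChecked

variable {same : List ℕ → List ℕ → Bool} (hC : CChecked same)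
include hC

theorem same_g {u v : List ℕ} (hu : ∀ x ∈ u, x < 9) (hv : ∀ x ∈ v, x < 9)
    (h : same u v = true) : prodw g u = prodw g v := by
  rw [← emb_prodw hu, ← emb_prodw hv, hC.same_eq u v hu hv h]

theorem valid : CData.log.Valid same := by
  have hw := hC.words
  simp only [wordsOK, Bool.and_eq_true, List.all_eq_true] at hw
  refine ⟨fun w hwm x hx => Nat.le_of_ble_eq_true (hw.1 w hwm x hx), fun w hwm => ?_,
    fun u v hu hv h => hC.same_g hu hv h⟩
  have h := hw.2 w hwm
  simp only [oneOK, Bool.or_eq_true, Bool.and_eq_true, List.any_eq_true, List.all_eq_true] at h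
  rcases h with h | ⟨r, hr, h⟩ | ⟨h9, h⟩
  · rw [leq_eq _ _ h]; simp [prodw]
  · have hwlt : ∀ x ∈ w, x < 11 := fun x hx =>
      Nat.le_of_ble_eq_true (hw.1 w (List.mem_of_mem_take hwm) x hx)
    have hrlt : ∀ x ∈ r, x < 11 := rel_lt r hr
    have e := congrArg rv (leq_eq _ _ h)
    rw [rv_redRev _ _ hrlt, rv_redRev _ _ hwlt, g_rel r hr, rv_nil, one_mul, one_mul] at e
    exact e.symm
  · rw [hC.same_g (fun x hx => Nat.le_of_ble_eq_true (h9 x hx)) (by simp) h]
    simp [prodw]

theorem tW_lt {k : ℕ} (hk : k < 120) : ∀ x ∈ tW k, x < 11 := by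
  have h := hC.tree k hk
  rw [twOK, show Nat.blt k 120 = true from Nat.ble_eq_true_of_le hk, cond_true,
    Bool.and_eq_true] at h
  exact fun x hx => Nat.le_of_ble_eq_true (List.all_eq_true.1 h.1 x hx)

theorem cr_eq : ∀ k < 120, CData.log.cr k = (prodw g (tW k))⁻¹ := by
  intro k
  induction k using Nat.strong_induction_on with
  | _ k ih =>
    intro hk
    have h := hC.tree k hk
    rw [twOK, show Nat.blt k 120 = true from Nat.ble_eq_true_of_le hk, cond_true,
      Bool.and_eq_true] at h
    replace h := h.2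
    cases h0 : Nat.beq k 0
    · rw [h0, cond_false, Bool.and_eq_true, Bool.and_eq_true] at h
      obtain ⟨hp, hx, he⟩ := h
      have hp : CData.log.parN k < k := Nat.le_of_ble_eq_true hp
      have hx : CData.log.parX k < 11 := Nat.le_of_ble_eq_true hx
      rw [leq_eq _ _ he, prodw_cons, g_iv hx, mul_inv_rev, inv_inv,
        CData.log.cr_step (Nat.pos_of_ne_zero fun e => by subst e; simp at h0) hp,
        ih _ hp (by omega), gv, if_pos hx]
    · rw [h0, cond_true] at h
      obtain rfl := Nat.eq_of_beq_eq_true h0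
      rw [leq_eq _ _ h, CLog.cr_zero, prodw_nil, inv_one]

theorem tW_zero : tW 0 = [] := by
  have h := hC.tree 0 (by norm_num)
  simp only [twOK, show Nat.blt 0 120 = true from rfl, show Nat.beq 0 0 = true from rfl, cond_true,
    Bool.and_eq_true] at h
  exact leq_eq _ _ h.2

/-- The letters other than `b` permute the cosets. -/
theorem ctab : ∀ k < 120, ∀ x < 11, x ≠ 1 →
    ∃ j < 120, ∃ d ∈ Dsub, g x * prodw g (tW k) = prodw g (tW j) * emb d := by
  intro k hk x hx hx1
  obtain ⟨j, hj, hjx⟩ : ∃ j < 10, CData.keep j = x := by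
    interval_cases x
    all_goals first
      | exact absurd rfl hx1
      | exact ⟨0, by decide, rfl⟩ | exact ⟨1, by decide, rfl⟩ | exact ⟨2, by decide, rfl⟩
      | exact ⟨3, by decide, rfl⟩ | exact ⟨4, by decide, rfl⟩ | exact ⟨5, by decide, rfl⟩
      | exact ⟨6, by decide, rfl⟩ | exact ⟨7, by decide, rfl⟩ | exact ⟨8, by decide, rfl⟩
      | exact ⟨9, by decide, rfl⟩
  have h := hC.edges (10 * k + j) (by omega)
  rw [edgeOK, show Nat.blt (10 * k + j) 1200 = true from Nat.ble_eq_true_of_le (by omega),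
    cond_true] at h
  have e1 : Nat.div (10 * k + j) 10 = k := by show (10 * k + j) / 10 = k; omega
  have e2 : Nat.mod (10 * k + j) 10 = j := by show (10 * k + j) % 10 = j; omega
  rw [e1, e2, hjx, Bool.and_eq_true] at h
  obtain ⟨hd, hp⟩ := h
  have hd : CData.dest k j < 120 := Nat.le_of_ble_eq_true hd
  obtain ⟨l, -, hl, he⟩ := CLog.pathOK_sound hC.valid hC.facts
    (by intro z hz; rw [List.mem_singleton] at hz; rw [hz]; exact civ_lt hx) hp
  rw [hC.cr_eq k hk, hC.cr_eq _ hd, prodw_cons, prodw_nil, mul_one, g_iv hx] at he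
  refine ⟨CData.dest k j, hd, (prodw pg l)⁻¹, inv_mem (prodw_mem_Dsub hl), ?_⟩
  rw [map_inv, emb_prodw fun z hz => isD_lt (hl z hz)]
  have e := congrArg Inv.inv he
  simp only [mul_inv_rev, inv_inv] at e
  exact e

theorem uPairs_lt : ∀ e ∈ uPairs, (∀ x ∈ e.1, x < 9) ∧ ∀ x ∈ e.2, x < 9 := by
  intro e he
  simp only [uPairs, List.mem_cons, List.mem_map] at he
  rcases he with rfl | ⟨p, hp, rfl⟩
  · decide
  · have h := List.all_eq_true.1 hC.loops p hp
    simp only [loopOK, Bool.and_eq_true, List.all_eq_true] at h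
    exact ⟨fun x hx => isD_lt (allD_spec h.1 x hx), fun x hx => Nat.le_of_ble_eq_true (h.2.1 x hx)⟩

theorem u_conj : ∀ e ∈ uPairs,
    (g 9)⁻¹ * emb (prodw pg e.1) * g 9 = emb (prodw pg e.2) := by
  intro e he
  have hlt := hC.uPairs_lt e he
  rw [emb_prodw hlt.1, emb_prodw hlt.2]
  simp only [uPairs, List.mem_cons, List.mem_map] at he
  rcases he with rfl | ⟨p, hp, rfl⟩
  · have hr := g_rel [10, 1, 2, 0, 1, 9, 1, 0, 2, 1, 4] (by decide)
    have hu : g 10 = (g 9)⁻¹ := g_iv (x := 9) (by norm_num)
    have i0 : g 0 = (g 0)⁻¹ := g_iv (x := 0) (by norm_num)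
    have i1 : g 1 = (g 1)⁻¹ := g_iv (x := 1) (by norm_num)
    have i2 : g 2 = (g 2)⁻¹ := g_iv (x := 2) (by norm_num)
    have i4 : g 4 = (g 4)⁻¹ := g_iv (x := 4) (by norm_num)
    simp only [prodw_cons, prodw_nil, mul_one] at hr ⊢
    rw [← hu]
    calc g 10 * (g 1 * (g 2 * (g 0 * g 1))) * g 9
        = (g 1 * (g 0 * (g 2 * (g 1 * g 4))))⁻¹ := by
          refine eq_inv_of_mul_eq_one_left ?_
          simpa [mul_assoc] using hr
      _ = g 4 * (g 1 * (g 2 * (g 0 * g 1))) := by
          simp only [mul_inv_rev, ← i0, ← i1, ← i2, ← i4, mul_assoc]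
  · have h := List.all_eq_true.1 hC.loops p hp
    simp only [loopOK, Bool.and_eq_true, List.all_eq_true] at h
    obtain ⟨-, -, h⟩ := h
    cases hf : CData.log.follow CData.log.nF (CData.refs p.1.1 p.1.2) CData.nodeU [] with
    | none => rw [hf] at h; simp at h
    | some q =>
      obtain ⟨a, st, l⟩ := q
      rw [hf] at h
      simp only [Bool.and_eq_true] at h
      obtain ⟨ha, hst, hs⟩ := h
      obtain rfl := Nat.eq_of_beq_eq_true ha
      obtain rfl := leq_eq _ _ hst
      obtain ⟨hl, he⟩ := CData.log.follow_sound (CLog.good hC.valid hC.facts) _ _ _ _ _ _ hf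
      rw [rv_redRev _ _ fun x hx => Nat.lt_trans (hlt.2 x hx) (by norm_num)] at he
      simp only [rv_nil, inv_one, mul_one, one_mul] at he
      have hn := hC.nodeU
      rw [Bool.and_eq_true] at hn
      rw [hC.cr_eq _ (Nat.le_of_ble_eq_true hn.2), leq_eq _ _ hn.1,
        show prodw g [10] = (g 9)⁻¹ by
          rw [prodw_cons, prodw_nil, mul_one]; exact g_iv (x := 9) (by norm_num), inv_inv] at he
      rw [hC.same_g hlt.1 (fun x hx => isD_lt (hl x hx)) hs, mul_assoc, ← he, inv_mul_cancel_left]

end CChecked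

end

end CfsgLib.ThCert
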