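import Cfsg.Agent.ThCert.Words
import Cfsg.Agent.ThCert.Sep

/-!
A calculus of facts `A R_i a = A R_k b` and `A R_i a u = A R_k b` between translates of right
cosets of the image of `P`, with `a`, `b` in `P`, using a list of pairs `(k, k')` of words with
`u⁻¹ k u = k'`.
-/

set_option autoImplicit false
set_option maxRecDepth 100000

namespace CfsgLib.ThCert

open CfsgLib.CosetEnum

noncomputable section

/-- The image of `P`. -/
abbrev KH : Subgroup Cfsg.Spor.Th := emb.range

variable (U : List (List ℕ × List ℕ))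

/-- `P` is small enough, and the pairs are pairs of words with `u` conjugating the first to the
second. -/
structure Conj : Prop where
  bound : ABound
  lt : ∀ e ∈ U, (∀ x ∈ e.1, x < 9) ∧ ∀ x ∈ e.2, x < 9
  conj : ∀ e ∈ U, (g 9)⁻¹ * emb (prodw pg e.1) * g 9 = emb (prodw pg e.2)

/-- A list of indices from a number, four bits each. -/
def decK (w : ℕ) : List ℕ :=
  Nat.rec (motive := fun _ => ℕ → List ℕ) (fun _ => [])
    (fun _ ih w => bif Nat.beq w 0 then []
      else Nat.sub (Nat.land w 15) 1 :: ih (Nat.shiftRight w 4)) 48 w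

/-- The first components along a list of indices. -/
def kA (w : ℕ) : List ℕ := (decK w).flatMap fun i => (U.getD i ([], [])).1

/-- The second components along a list of indices. -/
def kB (w : ℕ) : List ℕ := (decK w).flatMap fun i => (U.getD i ([], [])).2

variable {U}

theorem Conj.getD_spec (hU : Conj U) (i : ℕ) :
    ((∀ x ∈ (U.getD i ([], [])).1, x < 9) ∧ ∀ x ∈ (U.getD i ([], [])).2, x < 9) ∧
      (g 9)⁻¹ * emb (prodw pg (U.getD i ([], [])).1) * g 9 =
        emb (prodw pg (U.getD i ([], [])).2) := by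
  by_cases hi : i < U.length
  · rw [List.getD_eq_getElem _ _ hi]
    exact ⟨hU.lt _ (List.getElem_mem hi), hU.conj _ (List.getElem_mem hi)⟩
  · rw [List.getD_eq_default _ _ (Nat.le_of_not_lt hi)]
    simp [prodw]

theorem Conj.kA_lt (hU : Conj U) (w : ℕ) : ∀ x ∈ kA U w, x < 9 := by
  intro x hx
  obtain ⟨i, -, hi⟩ := List.mem_flatMap.mp hx
  exact (hU.getD_spec i).1.1 x hi

theorem Conj.kB_lt (hU : Conj U) (w : ℕ) : ∀ x ∈ kB U w, x < 9 := by
  intro x hx
  obtain ⟨i, -, hi⟩ := List.mem_flatMap.mp hx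
  exact (hU.getD_spec i).1.2 x hi

theorem Conj.comm_aux (hU : Conj U) : ∀ l : List ℕ,
    emb (prodw pg (l.flatMap fun i => (U.getD i ([], [])).1)) * g 9 =
      g 9 * emb (prodw pg (l.flatMap fun i => (U.getD i ([], [])).2))
  | [] => by simp [prodw]
  | i :: l => by
    rw [List.flatMap_cons, List.flatMap_cons, prodw_append, prodw_append, map_mul, map_mul,
      mul_assoc, hU.comm_aux l, ← mul_assoc, ← mul_assoc]
    congr 1
    rw [← (hU.getD_spec i).2]
    group

theorem Conj.comm (hU : Conj U) (w : ℕ) :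
    emb (prodw pg (kA U w)) * g 9 = g 9 * emb (prodw pg (kB U w)) := hU.comm_aux _

variable (U)

/-- Data of a derivation. -/
structure Cert where
  /-- Words of elements. -/
  word : ℕ → ℕ
  /-- The earlier rep, the element and the letter (`9` or `10`) defining a rep. -/
  repI : ℕ → ℕ
  repH : ℕ → ℕ
  repX : ℕ → ℕ
  /-- `0` plain, `1` with a final `u`. -/
  kind : ℕ → ℕ
  /-- `0` at the start, `1` a definition, `2` derived. -/
  how : ℕ → ℕ
  fI : ℕ → ℕ
  fA : ℕ → ℕ
  fK : ℕ → ℕ
  fB : ℕ → ℕ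
  /-- The relator used. -/
  fR : ℕ → ℕ
  /-- The moves: operation, argument, new rep, new element, and a word in the pairs. -/
  moves : ℕ → List (ℕ × ℕ × ℕ × ℕ × ℕ)

variable (D : Cert)

/-- The word of an element. -/
def Cert.wd (a : ℕ) : List ℕ := dec (D.word a)

/-- The word of a rep. -/
def Cert.rep (i : ℕ) : List ℕ :=
  Nat.rec (motive := fun _ => ℕ → List ℕ) (fun _ => [])
    (fun _ ih i => bif Nat.beq i 0 then []
      else ih (D.repI i) ++ D.wd (D.repH i) ++ [bif Nat.beq (D.repX i) 9 then 9 else 10]) 48 i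

theorem Cert.rep_zero : D.rep 0 = [] := rfl

theorem Cert.wd_lt (a : ℕ) : ∀ x ∈ D.wd a, x < 9 := dec_lt _

/-- The translate named by a rep and an element. -/
def Cert.pos (i a : ℕ) : Cfsg.Spor.Th := prodw g (D.rep i) * emb (el (D.word a))

/-- A move from `(s, h)` using facts before `i`. -/
def moveOk (i s h : ℕ) (m : ℕ × ℕ × ℕ × ℕ × ℕ) : Bool :=
  let f := m.2.1
  let t := m.2.2.1
  let h' := m.2.2.2.1
  let w := m.2.2.2.2
  bif Nat.beq m.1 0 then
    Nat.beq t s && same (D.wd h ++ dec f) (D.wd h')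
  else bif Nat.beq m.1 1 then
    Nat.blt f i && (Nat.beq (D.kind f) 0 && (Nat.beq (D.fI f) s && (Nat.beq (D.fK f) t &&
      same (D.wd (D.fB f) ++ wi (D.wd (D.fA f)) ++ D.wd h) (D.wd h'))))
  else bif Nat.beq m.1 2 then
    Nat.blt f i && (Nat.beq (D.kind f) 0 && (Nat.beq (D.fK f) s && (Nat.beq (D.fI f) t &&
      same (D.wd (D.fA f) ++ wi (D.wd (D.fB f)) ++ D.wd h) (D.wd h'))))
  else bif Nat.beq m.1 3 then
    Nat.blt f i && (Nat.beq (D.kind f) 1 && (Nat.beq (D.fI f) s && (Nat.beq (D.fK f) t &&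
      (same (D.wd h) (D.wd (D.fA f) ++ kA U w) && same (D.wd (D.fB f) ++ kB U w) (D.wd h')))))
  else bif Nat.beq m.1 4 then
    Nat.blt f i && (Nat.beq (D.kind f) 1 && (Nat.beq (D.fK f) s && (Nat.beq (D.fI f) t &&
      (same (D.wd h) (D.wd (D.fB f) ++ kB U w) && same (D.wd (D.fA f) ++ kA U w) (D.wd h')))))
  else false

/-- The letter consumed by a move. -/
def moveLet (m : ℕ × ℕ × ℕ × ℕ × ℕ) : List ℕ :=
  bif Nat.beq m.1 0 then dec m.2.1
  else bif Nat.beq m.1 3 then [9] else bif Nat.beq m.1 4 then [10] else []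

/-- Follow moves from `(s, h)` to the end position, collecting the letters consumed. -/
def follow (i : ℕ) : List (ℕ × ℕ × ℕ × ℕ × ℕ) → ℕ → ℕ → Option (List ℕ × ℕ × ℕ)
  | [], s, h => some ([], s, h)
  | m :: ms, s, h =>
    bif moveOk U D i s h m then
      (follow i ms m.2.2.1 m.2.2.2.1).map fun r => (moveLet m ++ r.1, r.2)
    else none

/-- Check of fact number `i`. -/
def checkFact (i : ℕ) : Bool :=
  bif Nat.beq (D.how i) 0 then
    Nat.beq (D.kind i) 0 && (Nat.beq (D.fI i) 0 && Nat.beq (D.fK i) 0)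
  else bif Nat.beq (D.how i) 1 then
    Nat.beq (D.kind i) 1 &&
      (decide (D.rep (D.fI i) ++ D.wd (D.fA i) ++ [9] = D.rep (D.fK i) ++ D.wd (D.fB i)) ||
        decide (D.rep (D.fI i) ++ D.wd (D.fA i) = D.rep (D.fK i) ++ D.wd (D.fB i) ++ [10]))
  else
    match follow U D i (D.moves i) (D.fI i) (D.fA i) with
    | none => false
    | some (v, s, h) => Nat.beq s (D.fK i) && (Nat.beq h (D.fB i) &&
        decide (v ++ (bif Nat.beq (D.kind i) 1 then [10] else []) = relWord (D.fR i)))

/-- What a fact says. -/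
def Says (i : ℕ) : Prop :=
  D.pos (D.fI i) (D.fA i) * (if D.kind i = 1 then g 9 else 1) *
      (D.pos (D.fK i) (D.fB i))⁻¹ ∈ KH

variable {U D}

theorem el_of_same (hB : ABound) {u : List ℕ} {a : ℕ} (hu : ∀ x ∈ u, x < 9) (h : same u (D.wd a) = true) :
    el (D.word a) = prodw pg u :=
  (eq_of_same_of hB hu (dec_lt _) h).symm

theorem move_sound (hU : Conj U) {i s h : ℕ} {m : ℕ × ℕ × ℕ × ℕ × ℕ} (ih : ∀ f < i, Says D f)
    (hm : moveOk U D i s h m = true) :
    D.pos s h * prodw g (moveLet m) * (D.pos m.2.2.1 m.2.2.2.1)⁻¹ ∈ KH := by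
  obtain ⟨o, f, t, h', w⟩ := m
  have hw := @Cert.wd_lt D
  have heq : ∀ (A B : ℕ), same (D.wd B ++ wi (D.wd A) ++ D.wd h) (D.wd h') = true →
      el (D.word h') = el (D.word B) * (el (D.word A))⁻¹ * el (D.word h) := by
    intro A B e
    rw [el_of_same hU.bound (app_lt (app_lt (hw _) (wi_lt (hw _))) (hw _)) e, prodw_append, prodw_append,
      pg_wi (hw _)]
    rfl
  simp only [moveOk] at hm
  simp only [moveLet]
  rcases Nat.lt_or_ge o 5 with ho | ho
  swap
  · have e : ∀ k < 5, Nat.beq o k = false := fun k hk =>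
      Bool.eq_false_iff.mpr fun hh => absurd (Nat.eq_of_beq_eq_true hh) (by omega)
    simp [e] at hm
  interval_cases o <;>
    simp only [Nat.beq, cond_true, cond_false, Bool.and_eq_true, Nat.blt_eq] at hm ⊢
  · obtain ⟨ht, e⟩ := hm
    have e' := el_of_same hU.bound (app_lt (hw _) (dec_lt f)) e
    rw [prodw_append] at e'
    rw [Nat.eq_of_beq_eq_true ht, Cert.pos, Cert.pos, e', map_mul, emb_prodw (w := dec f) (dec_lt f)]
    simp [el, Cert.wd, mul_assoc, one_mem]
  · obtain ⟨hf, hk, hs, ht, e⟩ := hm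
    have hS := ih f hf
    rw [Says, Nat.eq_of_beq_eq_true hk, if_neg (by norm_num), mul_one, Cert.pos, Cert.pos,
      Nat.eq_of_beq_eq_true hs, Nat.eq_of_beq_eq_true ht] at hS
    rw [Cert.pos, Cert.pos, prodw_nil, mul_one, heq _ _ e, map_mul, map_mul, map_inv]
    simpa [mul_assoc] using hS
  · obtain ⟨hf, hk, hs, ht, e⟩ := hm
    have hS := inv_mem (ih f hf)
    rw [Nat.eq_of_beq_eq_true hk, if_neg (by norm_num), mul_one, Cert.pos, Cert.pos,
      Nat.eq_of_beq_eq_true hs, Nat.eq_of_beq_eq_true ht] at hS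
    rw [Cert.pos, Cert.pos, prodw_nil, mul_one, heq _ _ e, map_mul, map_mul, map_inv]
    simpa [mul_assoc] using hS
  · obtain ⟨hf, hk, hs, ht, e1, e2⟩ := hm
    have hS := ih f hf
    rw [Says, Nat.eq_of_beq_eq_true hk, if_pos rfl, Cert.pos, Cert.pos,
      Nat.eq_of_beq_eq_true hs, Nat.eq_of_beq_eq_true ht] at hS
    have h1 := eq_of_same_of hU.bound (hw h) (app_lt (hw _) (hU.kA_lt w)) e1
    have h2 := el_of_same hU.bound (app_lt (hw _) (hU.kB_lt w)) e2
    rw [prodw_append] at h1 h2
    rw [Cert.pos, Cert.pos, prodw_cons, prodw_nil, mul_one, h2,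
      show el (D.word h) = _ from h1, map_mul, map_mul]
    show prodw g (D.rep s) * (emb (el (D.word (D.fA f))) * emb (prodw pg (kA U w))) * g 9 *
      (prodw g (D.rep t) * (emb (el (D.word (D.fB f))) * emb (prodw pg (kB U w))))⁻¹ ∈ KH
    have hc := hU.comm w
    generalize emb (el (D.word (D.fA f))) = a at hS ⊢
    generalize emb (el (D.word (D.fB f))) = b at hS ⊢
    generalize emb (prodw pg (kA U w)) = k at hc ⊢
    generalize emb (prodw pg (kB U w)) = k' at hc ⊢
    generalize prodw g (D.rep s) = r at hS ⊢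
    generalize prodw g (D.rep t) = r' at hS ⊢
    have h3 : r * (a * k) * g 9 * (r' * (b * k'))⁻¹ = r * a * (k * g 9) * k'⁻¹ * (r' * b)⁻¹ := by
      group
    rw [h3, hc, ← mul_assoc, mul_inv_cancel_right]
    exact hS
  · obtain ⟨hf, hk, hs, ht, e1, e2⟩ := hm
    have hS := inv_mem (ih f hf)
    rw [Nat.eq_of_beq_eq_true hk, if_pos rfl, Cert.pos, Cert.pos,
      Nat.eq_of_beq_eq_true hs, Nat.eq_of_beq_eq_true ht] at hS
    have h1 := eq_of_same_of hU.bound (hw h) (app_lt (hw _) (hU.kB_lt w)) e1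
    have h2 := el_of_same hU.bound (app_lt (hw _) (hU.kA_lt w)) e2
    rw [prodw_append] at h1 h2
    rw [Cert.pos, Cert.pos, prodw_cons, prodw_nil, mul_one, h2,
      show el (D.word h) = _ from h1, map_mul, map_mul, show g 10 = (g 9)⁻¹ from rfl]
    show prodw g (D.rep s) * (emb (el (D.word (D.fB f))) * emb (prodw pg (kB U w))) * (g 9)⁻¹ *
      (prodw g (D.rep t) * (emb (el (D.word (D.fA f))) * emb (prodw pg (kA U w))))⁻¹ ∈ KH
    have hc := hU.comm w
    generalize emb (el (D.word (D.fA f))) = a at hS ⊢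
    generalize emb (el (D.word (D.fB f))) = b at hS ⊢
    generalize emb (prodw pg (kA U w)) = k at hc ⊢
    generalize emb (prodw pg (kB U w)) = k' at hc ⊢
    generalize prodw g (D.rep s) = r at hS ⊢
    generalize prodw g (D.rep t) = r' at hS ⊢
    have h3 : r * (b * k') * (g 9)⁻¹ * (r' * (a * k))⁻¹ =
        r * b * k' * (k * g 9)⁻¹ * (r' * a)⁻¹ := by group
    rw [h3, hc]
    simpa [mul_assoc] using hS

theorem follow_sound (hU : Conj U) {i : ℕ} (ih : ∀ f < i, Says D f) :
    ∀ (ms : List (ℕ × ℕ × ℕ × ℕ × ℕ)) (s h : ℕ) (v : List ℕ) (k b : ℕ),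
      follow U D i ms s h = some (v, k, b) →
      D.pos s h * prodw g v * (D.pos k b)⁻¹ ∈ KH
  | [], s, h, v, k, b, e => by
    simp only [follow, Option.some.injEq, Prod.mk.injEq] at e
    obtain ⟨rfl, rfl, rfl⟩ := e
    rw [prodw_nil, mul_one, mul_inv_cancel]
    exact one_mem _
  | m :: ms, s, h, v, k, b, e => by
    rw [follow] at e
    cases hc : moveOk U D i s h m <;> rw [hc] at e
    · simp at e
    · rw [cond_true, Option.map_eq_some_iff] at e
      obtain ⟨⟨w, k', b'⟩, hw, e⟩ := e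
      simp only [Prod.mk.injEq] at e
      obtain ⟨rfl, rfl, rfl⟩ := e
      have h2 := mul_mem (move_sound hU ih hc) (follow_sound hU ih ms _ _ w _ _ hw)
      rw [prodw_append]
      simpa [mul_assoc] using h2

theorem says_of_check (hU : Conj U) {n : ℕ} (hc : ∀ i < n, checkFact U D i = true) : ∀ i < n, Says D i := by
  intro i
  induction i using Nat.strong_induction_on with
  | _ i ih =>
    intro hi
    have h := hc i hi
    have ih' : ∀ f < i, Says D f := fun f hf => ih f hf (lt_trans hf hi)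
    rw [checkFact] at h
    cases h0 : Nat.beq (D.how i) 0
    swap
    · simp only [h0, cond_true, Bool.and_eq_true] at h
      rw [Says, Nat.eq_of_beq_eq_true h.1, if_neg (by norm_num), mul_one, Cert.pos, Cert.pos,
        Nat.eq_of_beq_eq_true h.2.1, Nat.eq_of_beq_eq_true h.2.2, D.rep_zero, prodw_nil, one_mul,
        one_mul]
      exact mul_mem ⟨_, rfl⟩ (inv_mem ⟨_, rfl⟩)
    cases h1 : Nat.beq (D.how i) 1
    swap
    · simp only [h0, h1, cond_false, cond_true, Bool.and_eq_true, Bool.or_eq_true,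
        decide_eq_true_eq] at h
      rw [Says, Nat.eq_of_beq_eq_true h.1, if_pos rfl, Cert.pos, Cert.pos, emb_el, emb_el]
      have h9 : prodw g [9] = g 9 := by simp [prodw]
      have h10 : prodw g [10] = (g 9)⁻¹ := by simp [prodw, show g 10 = (g 9)⁻¹ from rfl]
      rcases h.2 with e | e
      · have e' := congrArg (prodw g) e
        simp only [prodw_append, h9, Cert.wd] at e'
        rw [e', mul_inv_cancel]
        exact one_mem _
      · have e' := congrArg (prodw g) e
        simp only [prodw_append, h10, Cert.wd] at e'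
        rw [e', inv_mul_cancel_right, mul_inv_cancel]
        exact one_mem _
    simp only [h0, h1, cond_false] at h
    rcases hf : follow U D i (D.moves i) (D.fI i) (D.fA i) with _ | ⟨v, s, b⟩
    · simp [hf] at h
    · rw [hf] at h
      simp only [Bool.and_eq_true, decide_eq_true_eq] at h
      obtain ⟨hs, hb, hw⟩ := h
      have hv := follow_sound hU ih' _ _ _ v s b hf
      rw [Nat.eq_of_beq_eq_true hs, Nat.eq_of_beq_eq_true hb] at hv
      have hr : prodw g v * prodw g (bif Nat.beq (D.kind i) 1 then [10] else []) = 1 := by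
        rw [← prodw_append, hw, prodw_relWord]
      rw [Says]
      cases hk : Nat.beq (D.kind i) 1
      · rw [hk, cond_false, prodw_nil, mul_one] at hr
        rw [if_neg (fun hh => by rw [hh] at hk; exact absurd hk (by decide)), mul_one]
        rwa [hr, mul_one] at hv
      · rw [hk, cond_true, prodw_cons, prodw_nil, mul_one, show g 10 = (g 9)⁻¹ from rfl,
          mul_inv_eq_one] at hr
        rw [if_pos (Nat.eq_of_beq_eq_true hk)]
        rwa [hr] at hv

end

end CfsgLib.ThCert
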