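import Cfsg.Agent.ThCert.Upper
import Cfsg.Agent.ThCert.CSound
import Cfsg.Agent.ThCert.Data.Orbits
import Cfsg.Agent.ThCert.Data.Facts0
import Cfsg.Agent.ThCert.Data.Facts1
import Cfsg.Agent.ThCert.Data.Facts2
import Cfsg.Agent.ThCert.Data.Facts3
import Cfsg.Agent.ThCert.Data.Facts4
import Cfsg.Agent.ThCert.Data.Facts5
import Cfsg.Agent.ThCert.Data.Facts6
import Cfsg.Agent.ThCert.Data.Facts7
import Cfsg.Agent.ThCert.Data.Facts8
import Cfsg.Agent.ThCert.Data.Facts9
import Cfsg.Agent.ThCert.Data.Facts10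
import Cfsg.Agent.ThCert.Data.Facts11
import Cfsg.Agent.ThCert.Data.Facts12
import Cfsg.Agent.ThCert.Data.Facts13
import Cfsg.Agent.ThCert.Data.Facts14
import Cfsg.Agent.ThCert.Data.Facts15
import Cfsg.Agent.ThCert.Data.Paths0
import Cfsg.Agent.ThCert.Data.Paths1
import Cfsg.Agent.ThCert.Data.Paths2
import Cfsg.Agent.ThCert.Data.Paths3
import Cfsg.Agent.ThCert.Data.Paths4
import Cfsg.Agent.ThCert.Data.Paths5
import Cfsg.Agent.ThCert.Data.Paths6
import Cfsg.Agent.ThCert.Data.Paths7
import Cfsg.Agent.ThCert.Data.Paths8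
import Cfsg.Agent.ThCert.Data.Paths9
import Cfsg.Agent.ThCert.Data.Paths10
import Cfsg.Agent.ThCert.Data.Paths11
import Cfsg.Agent.ThCert.Data.Paths12

/-!
The derivation and the closure from the data.
-/

set_option autoImplicit false
set_option maxRecDepth 100000

namespace CfsgLib.ThCert

noncomputable section

/-- The blocks of facts. -/
def fctAll : List (List (List (ℕ × ℕ × ℕ × ℕ × ℕ × ℕ × ℕ))) :=
  [fctBlock0, fctBlock1, fctBlock2, fctBlock3, fctBlock4, fctBlock5, fctBlock6, fctBlock7,
    fctBlock8, fctBlock9, fctBlock10, fctBlock11, fctBlock12, fctBlock13, fctBlock14, fctBlock15]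

/-- The blocks of derivations. -/
def drvAll : List (List (List (List (ℕ × ℕ × ℕ × ℕ × ℕ)))) :=
  [drvBlock0, drvBlock1, drvBlock2, drvBlock3, drvBlock4, drvBlock5, drvBlock6, drvBlock7,
    drvBlock8, drvBlock9, drvBlock10, drvBlock11, drvBlock12, drvBlock13, drvBlock14, drvBlock15]

/-- A fact from its number. -/
def fctAt (i : ℕ) : ℕ × ℕ × ℕ × ℕ × ℕ × ℕ × ℕ :=
  ((fctAll.getD (Nat.shiftRight i 8) []).getD (Nat.land (Nat.shiftRight i 4) 15) []).getD
    (Nat.land i 15) (0, 0, 0, 0, 0, 0, 0)

/-- A derivation from its number. -/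
def drvAt (i : ℕ) : List (ℕ × ℕ × ℕ × ℕ × ℕ) :=
  ((drvAll.getD (Nat.shiftRight i 8) []).getD (Nat.land (Nat.shiftRight i 4) 15) []).getD
    (Nat.land i 15) []

/-- A rep from its number. -/
def repAt (i : ℕ) : ℕ × ℕ × ℕ :=
  (repList.getD (Nat.shiftRight i 4) []).getD (Nat.land i 15) (0, 0, 9)

/-- The derivation. -/
def cert : Cert where
  word := fun a => a
  repI := fun i => (repAt i).1
  repH := fun i => (repAt i).2.1
  repX := fun i => (repAt i).2.2
  kind := fun i => (fctAt i).1
  how := fun i => (fctAt i).2.1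
  fI := fun i => (fctAt i).2.2.1
  fA := fun i => (fctAt i).2.2.2.1
  fK := fun i => (fctAt i).2.2.2.2.1
  fB := fun i => (fctAt i).2.2.2.2.2.1
  fR := fun i => (fctAt i).2.2.2.2.2.2
  moves := drvAt

/-- The moves from the bases. -/
def pathAll : List (List (List (List (ℕ × ℕ × ℕ × ℕ × ℕ)))) :=
  [pathBlock0, pathBlock1, pathBlock2, pathBlock3, pathBlock4, pathBlock5, pathBlock6,
    pathBlock7, pathBlock8, pathBlock9, pathBlock10, pathBlock11, pathBlock12]

/-- The closure. -/
def clo : Closure where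
  nF := 4067
  nS := 11
  srep := fun j => srepList.getD j 0
  sSize := fun j => sizeList.getD j 0
  sGens := fun j => sgenList.getD j []
  sChain := fun j => chainList.getD j []
  tree := fun j => forestList.getD j 0
  nR := 241
  rootC := fun o => ((rootList.getD (Nat.shiftRight o 4) []).getD (Nat.land o 15) (0, 0)).1
  rootT := fun o => ((rootList.getD (Nat.shiftRight o 4) []).getD (Nat.land o 15) (0, 0)).2
  cI := fun c => (baseList.getD c (0, 0)).1
  cA := fun c => (baseList.getD c (0, 0)).2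
  rMoves := fun o =>
    let e := (rootList.getD (Nat.shiftRight o 4) []).getD (Nat.land o 15) (0, 0)
    ((pathAll.getD e.1 []).getD (Nat.shiftRight e.2 4) []).getD (Nat.land e.2 15) []
  nC := 13
  cMoves := fun c k =>
    ((pathAll.getD c []).getD (Nat.shiftRight k 4) []).getD (Nat.land k 15) []

/-- A fact checks. -/
def okFact (i : ℕ) : Bool := bif Nat.blt i 4067 then checkFact uPairs cert i else true

/-- A path checks. -/
def okPathAt (c k : ℕ) : Bool := bif Nat.blt k 120 then okPath uPairs cert clo tW c k else true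

end

end CfsgLib.ThCert
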