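import Cfsg.Agent.ThCert.Words
import Cfsg.Agent.ThCert.Table
import Cfsg.Agent.HNCert.Chain

/-!
The action of `P` on 819 points.
-/

set_option autoImplicit false
set_option Elab.async false
set_option maxRecDepth 100000

namespace CfsgLib.ThCert

open CfsgLib.CosetEnum CfsgLib.HNCert

noncomputable section

/-- The table of a letter. -/
def tabOf (x : ℕ) : ℕ :=
  bif Nat.beq x 0 then tab0 else bif Nat.beq x 1 then tab1 else bif Nat.beq x 2 then tab2 else
  bif Nat.beq x 3 then tab3 else bif Nat.beq x 4 then tab4 else bif Nat.beq x 5 then tab5 else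
  bif Nat.beq x 6 then tab6 else bif Nat.beq x 7 then tab7 else tab8

/-- The image of a point under a letter. -/
def img (x i : ℕ) : ℕ := Nat.land (Nat.shiftRight (tabOf x) (Nat.mul 10 i)) 1023

/-- The end of a path of a word. -/
def walk (w : List ℕ) (i : ℕ) : ℕ :=
  List.rec (fun i => i) (fun x _ ih i => force (img x i) ih) w i

theorem walk_nil (i : ℕ) : walk [] i = i := rfl

theorem walk_cons (x : ℕ) (w : List ℕ) (i : ℕ) : walk (x :: w) i = walk w (img x i) := by
  show force (img x i) (walk w) = _
  rw [force_eq]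

/-- A point goes to a point, and the inverse letter brings it back. -/
def okImg (x i : ℕ) : Bool :=
  bif Nat.blt i 819 then
    force (img x i) fun j => Nat.blt j 819 && Nat.beq (img (iv x) j) i
  else true

theorem okImg_all : ∀ x < 9, allR (okImg x) 10 0 = true := by decide +kernel

theorem img_spec (x : ℕ) (hx : x < 9) (i : Fin 819) :
    img x i < 819 ∧ img (iv x) (img x i) = i := by
  have h := allR_spec 10 0 (okImg_all x hx) i (Nat.zero_le _) (by omega)
  rw [okImg, show Nat.blt (i : ℕ) 819 = true from Nat.ble_eq_true_of_le i.isLt, cond_true,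
    force_eq, Bool.and_eq_true] at h
  exact ⟨Nat.le_of_ble_eq_true h.1, Nat.eq_of_beq_eq_true h.2⟩

theorem iv_iv_nine (x : ℕ) (hx : x < 9) : iv (iv x) = x := by interval_cases x <;> decide

/-- The permutation of a letter, acting from the right. -/
def letPerm (x : ℕ) : Equiv.Perm (Fin 819) :=
  if hx : x < 9 then
    { toFun := fun i => ⟨img (iv x) i, (img_spec (iv x) (iv_lt_nine hx) i).1⟩
      invFun := fun i => ⟨img x i, (img_spec x hx i).1⟩
      left_inv := fun i => Fin.ext (by
        have h := (img_spec (iv x) (iv_lt_nine hx) i).2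
        rwa [iv_iv_nine x hx] at h)
      right_inv := fun i => Fin.ext (img_spec x hx i).2 }
  else 1

theorem letPerm_inv_apply (x : ℕ) (hx : x < 9) (i : Fin 819) :
    ((letPerm x)⁻¹ i).val = img x i := by
  rw [letPerm, dif_pos hx]; rfl

theorem prodw_letPerm_inv : ∀ (w : List ℕ), (∀ x ∈ w, x < 9) → ∀ i : Fin 819,
    ((prodw letPerm w)⁻¹ i).val = walk w i
  | [], _, i => by rw [prodw_nil, inv_one, Equiv.Perm.one_apply, walk_nil]
  | x :: w, hw, i => by
    rw [prodw_cons, mul_inv_rev, Equiv.Perm.mul_apply,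
      prodw_letPerm_inv w (fun y hy => hw y (List.mem_cons_of_mem x hy)),
      letPerm_inv_apply x (hw x List.mem_cons_self), walk_cons]

/-- A relator closes at a point. -/
def okRelA (r i : ℕ) : Bool :=
  bif Nat.blt i 819 then Nat.beq (walk (relA.getD r []) i) i else true

theorem okRelA_all : ∀ r < 27, allR (okRelA r) 10 0 = true := by decide +kernel

/-- The values of the generators. -/
def permGen : PGen → Equiv.Perm (Fin 819)
  | .a => letPerm 0
  | .b => letPerm 1
  | .c => letPerm 2
  | .d => letPerm 3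
  | .e => letPerm 4
  | .s => letPerm 5
  | .t => letPerm 7

theorem letPerm_val {x : ℕ} (hx : x < 9) : letPerm x = val (ext1 permGen) x := by
  interval_cases x
  case «6» =>
    refine eq_inv_of_mul_eq_one_left (Equiv.ext fun i => Fin.ext ?_)
    show ((letPerm 6) ((letPerm 5) i)).val = _
    rw [letPerm, dif_pos (by norm_num), letPerm, dif_pos (by norm_num)]
    exact (img_spec 6 (by norm_num) i).2
  case «8» =>
    refine eq_inv_of_mul_eq_one_left (Equiv.ext fun i => Fin.ext ?_)
    show ((letPerm 8) ((letPerm 7) i)).val = _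
    rw [letPerm, dif_pos (by norm_num), letPerm, dif_pos (by norm_num)]
    exact (img_spec 8 (by norm_num) i).2
  all_goals rfl

theorem exists_pi : ∃ χ : P →* Equiv.Perm (Fin 819), ∀ x, x < 9 → χ (pg x) = letPerm x := by
  obtain ⟨χ, hχ⟩ := exists_lift permGen (fun w hw => by
    rw [← prodw_congr fun i hi => letPerm_val (relA_lt w hw i hi), ← inv_eq_one]
    refine Equiv.ext fun i => Fin.ext ?_
    rw [prodw_letPerm_inv w (relA_lt w hw), Equiv.Perm.one_apply]
    obtain ⟨r, hr, rfl⟩ := List.getElem_of_mem hw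
    have h := allR_spec 10 0 (okRelA_all r hr) i (Nat.zero_le _) (by omega)
    rw [okRelA, show Nat.blt (i : ℕ) 819 = true from Nat.ble_eq_true_of_le i.isLt, cond_true,
      List.getD_eq_getElem _ _ hr] at h
    exact Nat.eq_of_beq_eq_true h)
  exact ⟨χ, fun x hx => by rw [hχ, ← letPerm_val hx]⟩

/-- The action on the points. -/
def pi : P →* Equiv.Perm (Fin 819) := exists_pi.choose

theorem pi_pg {x : ℕ} (hx : x < 9) : pi (pg x) = letPerm x := exists_pi.choose_spec x hx

theorem mv_prodw {w : List ℕ} (hw : ∀ x ∈ w, x < 9) (i : Fin 819) :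
    (mv pi (prodw pg w) i).val = walk w i := by
  rw [mv, map_prodw, prodw_congr fun x hx => pi_pg (hw x hx), prodw_letPerm_inv w hw]

theorem walk_lt {w : List ℕ} (hw : ∀ x ∈ w, x < 9) {i : ℕ} (hi : i < 819) : walk w i < 819 := by
  rw [show walk w i = walk w (⟨i, hi⟩ : Fin 819) from rfl, ← mv_prodw hw]
  exact Fin.isLt _

end

end CfsgLib.ThCert
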