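import Cfsg.Agent.CosetEnum.Cox
import Cfsg.Prelude.Def_Spor_Th

/-!
The presentation of `Cfsg.Spor.Th` by words in the letters
`0, …, 10 = a, b, c, d, e, s, s⁻¹, t, t⁻¹, u, u⁻¹`, and the group `P` presented by the relators
without `u` (so `³D₄(2):3`), with its map into it.
-/

set_option autoImplicit false
set_option maxRecDepth 100000
set_option linter.constructorNameAsVariable false

namespace CfsgLib.ThCert

open Cfsg.Spor CfsgLib.CosetEnum

noncomputable section

/-- The letters evaluated at values of the generators. -/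
def val {K : Type*} [Group K] (f : Th.Gen → K) : ℕ → K
  | 0 => f .a
  | 1 => f .b
  | 2 => f .c
  | 3 => f .d
  | 4 => f .e
  | 5 => f .s
  | 6 => (f .s)⁻¹
  | 7 => f .t
  | 8 => (f .t)⁻¹
  | 9 => f .u
  | _ => (f .u)⁻¹

/-- The inverse letter. -/
def iv : ℕ → ℕ
  | 5 => 6
  | 6 => 5
  | 7 => 8
  | 8 => 7
  | 9 => 10
  | 10 => 9
  | x => x

/-- The relators free of `u`. -/
def relA : List (List ℕ) := [
  [0, 0],
  [1, 1],
  [2, 2],
  [3, 3],
  [4, 4],
  [0, 1, 0, 1, 0, 1],
  [0, 4, 0, 4],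
  [1, 2, 1, 2, 1, 2],
  [1, 3, 1, 3],
  [1, 4, 1, 4],
  [0, 3, 2, 3, 2, 3, 2, 3, 2],
  [2, 4, 2, 4],
  [3, 4, 3, 4, 3, 4],
  [1, 2, 3, 4, 1, 2, 3, 4, 1, 2, 3, 4, 1, 2, 3, 4, 1, 2, 3, 4, 1, 2, 3, 4, 1, 2, 3, 4, 1, 2, 3,
    4],
  [5, 5, 5, 5, 5, 5, 5],
  [6, 0, 5, 0],
  [6, 1, 5, 1],
  [6, 2, 5, 2],
  [5, 3, 5, 3],
  [4, 6, 4, 5, 6, 6, 6, 4, 5, 5, 5],
  [7, 7, 7],
  [8, 0, 7, 0],
  [8, 1, 7, 1],
  [8, 2, 7, 2],
  [8, 3, 7, 3],
  [8, 4, 7, 4],
  [8, 5, 7, 6, 6]]

/-- The relators with `u`. -/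
def relU : List (List ℕ) := [
  [9, 9, 2, 0],
  [10, 0, 9, 0],
  [10, 2, 9, 2],
  [10, 4, 9, 4],
  [3, 4, 10, 3, 9, 3, 4, 10, 3, 9],
  [10, 1, 2, 0, 1, 9, 1, 0, 2, 1, 4],
  [3, 10, 3, 1, 2, 0, 1, 3, 9, 3, 1, 0, 2, 1, 2, 4, 3, 10, 3, 1, 2, 0, 1, 4, 10],
  [10, 7, 9, 7],
  [4, 6, 6, 10, 5, 5, 4, 6, 6, 9, 5, 5],
  [0, 2, 6, 10, 6, 10, 6, 10],
  [0, 2, 6, 10, 5, 9, 6, 10, 5, 9, 6, 10, 5, 9, 6, 10, 5, 9],
  [3, 6, 6, 9, 5, 5, 3, 6, 6, 9, 5, 5, 3, 6, 6, 9, 5, 5, 3, 6, 6, 9, 5, 5, 6, 6, 4, 3, 2, 3, 4,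
    5, 5, 5, 4, 3, 2, 3, 4, 6, 3, 2, 3, 2, 0]]

/-- The five involutions among the generators. -/
def Invol {K : Type*} [Group K] (f : Th.Gen → K) : Prop :=
  f .a * f .a = 1 ∧ f .b * f .b = 1 ∧ f .c * f .c = 1 ∧ f .d * f .d = 1 ∧ f .e * f .e = 1

/-- The relators of the presentation read as words. -/
theorem extra_eq {K : Type} [Group K] (f : Th.Gen → K) (hf : Invol f) :
    Th.extra.map (FreeGroup.lift f) = (relA ++ relU).map (prodw (val f)) := by
  obtain ⟨ha, hb, hc, hd, he⟩ := hf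
  have ha' := inv_eq_of_mul_eq_one_right ha
  have hb' := inv_eq_of_mul_eq_one_right hb
  have hc' := inv_eq_of_mul_eq_one_right hc
  have hd' := inv_eq_of_mul_eq_one_right hd
  have he' := inv_eq_of_mul_eq_one_right he
  simp [Th.extra, Th.a, Th.b, Th.c, Th.d, Th.e, Th.s, Th.t, Th.u, relA, relU, prodw, val, pow_succ,
    mul_assoc, mul_inv_rev, ha', hb', hc', hd', he']

/-- The generators of `P`. -/
inductive PGen
  | a
  | b
  | c
  | d
  | e
  | s
  | t
  deriving DecidableEq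

/-- A valuation of the generators of `P`, completed by `u ↦ 1`. -/
def ext1 {K : Type*} [Group K] (f : PGen → K) : Th.Gen → K
  | .a => f .a
  | .b => f .b
  | .c => f .c
  | .d => f .d
  | .e => f .e
  | .s => f .s
  | .t => f .t
  | .u => 1

/-- The letters in the free group on seven generators. -/
def freeVal : ℕ → FreeGroup PGen := val (ext1 FreeGroup.of)

/-- The group presented by the relators without `u`. -/
abbrev P : Type := PresentedGroup {r : FreeGroup PGen | r ∈ relA.map (prodw freeVal)}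

/-- The letters in `P`. -/
def pg : ℕ → P := val (ext1 PresentedGroup.of)

/-- The letters in the group of the presentation. -/
def g : ℕ → Cfsg.Spor.Th := val PresentedGroup.of

theorem map_val {K L : Type*} [Group K] [Group L] (χ : K →* L) (f : Th.Gen → K) (i : ℕ) :
    χ (val f i) = val (fun x => χ (f x)) i := by
  match i with
  | 0 | 1 | 2 | 3 | 4 | 5 | 7 | 9 => rfl
  | 6 | 8 | 10 => exact map_inv χ _
  | _ + 11 => exact map_inv χ _

theorem map_ext1 {K L : Type*} [Group K] [Group L] (χ : K →* L) (f : PGen → K) :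
    (fun x => χ (ext1 f x)) = ext1 fun x => χ (f x) := by
  funext x
  cases x <;> simp [ext1]

theorem map_prodw {K L : Type*} [Group K] [Group L] (χ : K →* L) (v : ℕ → K) (w : List ℕ) :
    χ (prodw v w) = prodw (fun i => χ (v i)) w := by
  simp only [prodw, map_list_prod, List.map_map]
  rfl

theorem prodw_congr {K : Type*} [Group K] {v v' : ℕ → K} {w : List ℕ}
    (h : ∀ i ∈ w, v i = v' i) : prodw v w = prodw v' w := by
  simp only [prodw]
  congr 1
  exact List.map_congr_left h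

theorem pg_rel : ∀ w ∈ relA, prodw pg w = 1 := by
  intro w hw
  have h : PresentedGroup.mk {r : FreeGroup PGen | r ∈ relA.map (prodw freeVal)} (prodw freeVal w) = 1 :=
    PresentedGroup.one_of_mem (List.mem_map_of_mem hw)
  rw [map_prodw] at h
  rw [← h]
  refine prodw_congr fun i _ => ?_
  refine Eq.trans ?_ (map_val _ _ i).symm
  rw [map_ext1]
  rfl

/-- A valuation satisfying the relators without `u` extends to `P`. -/
theorem exists_lift {K : Type*} [Group K] (f : PGen → K)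
    (h : ∀ w ∈ relA, prodw (val (ext1 f)) w = 1) :
    ∃ χ : P →* K, ∀ i, χ (pg i) = val (ext1 f) i := by
  refine ⟨PresentedGroup.toGroup (f := f) ?_, fun i => ?_⟩
  · intro r hr
    obtain ⟨w, hw, rfl⟩ := List.mem_map.mp (show r ∈ relA.map (prodw freeVal) from hr)
    rw [map_prodw, ← h w hw]
    refine prodw_congr fun i _ => ?_
    refine (map_val _ _ i).trans ?_
    rw [map_ext1]
    congr 1
    funext x
    cases x <;> simp [ext1]
  · rw [pg, map_val, map_ext1]
    simp only [PresentedGroup.toGroup.of]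

theorem relA_sq : ∀ x < 5, [x, x] ∈ relA := by decide +kernel

theorem invol_th : Invol (PresentedGroup.of : Th.Gen → Cfsg.Spor.Th) := by
  have key : ∀ x : Th.Gen, FreeGroup.of x ^ 2 ∈ Th.extra →
      (PresentedGroup.of x : Cfsg.Spor.Th) * PresentedGroup.of x = 1 := fun x hx => by
    have h := PresentedGroup.one_of_mem (rels := coxRelators Th.edges ∪ {r | r ∈ Th.extra})
      (x := FreeGroup.of x ^ 2) (Or.inr hx)
    rw [pow_two, map_mul] at h
    exact h
  refine ⟨key .a ?_, key .b ?_, key .c ?_, key .d ?_, key .e ?_⟩ <;> simp [Th.extra]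

theorem g_rel : ∀ w ∈ relA ++ relU, prodw g w = 1 := by
  intro w hw
  have h := extra_eq (K := Cfsg.Spor.Th) PresentedGroup.of invol_th
  have hlift : FreeGroup.lift (PresentedGroup.of : Th.Gen → Cfsg.Spor.Th) =
      PresentedGroup.mk (coxRelators Th.edges ∪ {r | r ∈ Th.extra}) := by
    ext y
    simp [PresentedGroup.of]
  have hmem : prodw g w ∈ (relA ++ relU).map (prodw g) := List.mem_map_of_mem hw
  rw [g, ← h, List.mem_map] at hmem
  obtain ⟨r, hr, he⟩ := hmem
  rw [show prodw g w = _ from he.symm, hlift]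
  exact PresentedGroup.one_of_mem (Or.inr hr)

/-- A valuation satisfying the words respects the presentation. -/
theorem lift_eq_one {K : Type} [Group K] (f : Th.Gen → K)
    (h : ∀ w ∈ relA ++ relU, prodw (val f) w = 1) :
    ∀ r ∈ coxRelators Th.edges ∪ {r | r ∈ Th.extra}, FreeGroup.lift f r = 1 := by
  have hs : ∀ x < 5, prodw (val f) [x, x] = 1 := fun x hx =>
    h _ (List.mem_append_left _ (relA_sq x hx))
  have hf : Invol f :=
    ⟨by simpa [prodw, val] using hs 0 (by norm_num), by simpa [prodw, val] using hs 1 (by norm_num),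
      by simpa [prodw, val] using hs 2 (by norm_num), by simpa [prodw, val] using hs 3 (by norm_num),
      by simpa [prodw, val] using hs 4 (by norm_num)⟩
  rintro r (⟨p, hp, -⟩ | hr)
  · simp [coxNodes, Th.edges] at hp
  · have hm : FreeGroup.lift f r ∈ Th.extra.map (FreeGroup.lift f) := List.mem_map_of_mem hr
    rw [extra_eq f hf] at hm
    obtain ⟨w, hw, hw'⟩ := List.mem_map.mp hm
    rw [← hw']
    exact h w hw

theorem relA_lt : ∀ w ∈ relA, ∀ i ∈ w, i < 9 := by decide +kernel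

theorem val_ext1_res {K : Type*} [Group K] (f : Th.Gen → K) {i : ℕ} (hi : i < 9) :
    val (ext1 fun x => match x with
      | PGen.a => f .a | PGen.b => f .b | PGen.c => f .c | PGen.d => f .d
      | PGen.e => f .e | PGen.s => f .s | PGen.t => f .t) i = val f i := by
  interval_cases i <;> rfl

theorem exists_emb : ∃ χ : P →* Cfsg.Spor.Th, ∀ i, i < 9 → χ (pg i) = g i := by
  obtain ⟨χ, hχ⟩ := exists_lift (K := Cfsg.Spor.Th) (fun x => match x with
      | PGen.a => PresentedGroup.of Th.Gen.a | PGen.b => PresentedGroup.of Th.Gen.b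
      | PGen.c => PresentedGroup.of Th.Gen.c | PGen.d => PresentedGroup.of Th.Gen.d
      | PGen.e => PresentedGroup.of Th.Gen.e | PGen.s => PresentedGroup.of Th.Gen.s
      | PGen.t => PresentedGroup.of Th.Gen.t) (fun w hw => by
    rw [← g_rel w (List.mem_append_left _ hw)]
    exact prodw_congr fun i hi => val_ext1_res _ (relA_lt w hw i hi))
  exact ⟨χ, fun i hi => by rw [hχ]; exact val_ext1_res _ hi⟩

/-- The map of `P` into the group of the presentation. -/
def emb : P →* Cfsg.Spor.Th := exists_emb.choose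

theorem emb_pg {i : ℕ} (hi : i < 9) : emb (pg i) = g i := exists_emb.choose_spec i hi

theorem emb_prodw {w : List ℕ} (hw : ∀ i ∈ w, i < 9) : emb (prodw pg w) = prodw g w := by
  rw [map_prodw]
  exact prodw_congr fun i hi => emb_pg (hw i hi)

end

end CfsgLib.ThCert
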