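import Cfsg.Agent.ThCert.Setup

/-!
Words in the letters: packed numbers, inverses, and rotations of relators.
-/

set_option autoImplicit false
set_option maxRecDepth 100000

namespace CfsgLib.ThCert

open CfsgLib.CosetEnum

noncomputable section

/-- A word in the letters `0, …, 8` from a number, four bits a letter. -/
def dec (w : ℕ) : List ℕ :=
  Nat.rec (motive := fun _ => ℕ → List ℕ) (fun _ => [])
    (fun _ ih w => bif Nat.beq w 0 then []
      else Nat.mod (Nat.sub (Nat.land w 15) 1) 9 :: ih (Nat.shiftRight w 4)) 64 w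

theorem dec_lt (w : ℕ) : ∀ x ∈ dec w, x < 9 := by
  unfold dec
  generalize 64 = f
  induction f generalizing w with
  | zero => intro x hx; exact absurd hx List.not_mem_nil
  | succ f ih =>
    intro x hx
    dsimp only at hx
    cases h : Nat.beq w 0 <;> rw [h] at hx
    · rw [cond_false] at hx
      rcases List.mem_cons.mp hx with rfl | hx
      · exact Nat.mod_lt _ (by norm_num)
      · exact ih _ x hx
    · rw [cond_true] at hx
      exact absurd hx List.not_mem_nil

/-- The element of a packed word. -/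
def el (w : ℕ) : P := prodw pg (dec w)

theorem emb_el (w : ℕ) : emb (el w) = prodw g (dec w) := emb_prodw (dec_lt w)

/-- The inverse word. -/
def wi (w : List ℕ) : List ℕ := (w.map iv).reverse

theorem iv_lt_nine {x : ℕ} (hx : x < 9) : iv x < 9 := by interval_cases x <;> decide

theorem iv_lt_eleven {x : ℕ} (hx : x < 11) : iv x < 11 := by interval_cases x <;> decide

theorem wi_lt {w : List ℕ} (hw : ∀ x ∈ w, x < 9) : ∀ x ∈ wi w, x < 9 := by
  intro x hx
  obtain ⟨y, hy, rfl⟩ := List.mem_map.mp (List.mem_reverse.mp hx)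
  exact iv_lt_nine (hw y hy)

theorem app_lt {n : ℕ} {u v : List ℕ} (hu : ∀ x ∈ u, x < n) (hv : ∀ x ∈ v, x < n) :
    ∀ x ∈ u ++ v, x < n := by
  intro x hx
  rcases List.mem_append.mp hx with h | h
  exacts [hu x h, hv x h]

theorem pg_iv' {x : ℕ} (hx : x < 9) : pg (iv x) = (pg x)⁻¹ := by
  have h2 : ∀ y < 5, pg y = (pg y)⁻¹ := fun y hy => by
    have h := pg_rel [y, y] (relA_sq y hy)
    exact eq_inv_of_mul_eq_one_left (by simpa [prodw] using h)
  interval_cases x
  iterate 5 exact h2 _ (by decide)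
  · rfl
  · exact (inv_inv _).symm
  · rfl
  · exact (inv_inv _).symm

theorem g_iv' {x : ℕ} (hx : x < 11) : g (iv x) = (g x)⁻¹ := by
  have h2 : ∀ y < 5, g y = (g y)⁻¹ := fun y hy => by
    have h := g_rel [y, y] (List.mem_append_left _ (relA_sq y hy))
    exact eq_inv_of_mul_eq_one_left (by simpa [prodw] using h)
  interval_cases x
  iterate 5 exact h2 _ (by decide)
  · rfl
  · exact (inv_inv _).symm
  · rfl
  · exact (inv_inv _).symm
  · rfl
  · exact (inv_inv _).symm

theorem pg_wi {w : List ℕ} (hw : ∀ x ∈ w, x < 9) : prodw pg (wi w) = (prodw pg w)⁻¹ :=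
  prodw_rev_iv pg 9 iv (fun _x hx _ => pg_iv' hx) w fun y hy => ⟨hw y hy, iv_lt_nine (hw y hy)⟩

theorem g_wi {w : List ℕ} (hw : ∀ x ∈ w, x < 11) : prodw g (wi w) = (prodw g w)⁻¹ :=
  prodw_rev_iv g 11 iv (fun _x hx _ => g_iv' hx) w fun y hy => ⟨hw y hy, iv_lt_eleven (hw y hy)⟩

/-- The last relator, freely reduced. -/
def relLast : List ℕ := [3, 6, 6, 9, 5, 5, 3, 6, 6, 9, 5, 5, 3, 6, 6, 9, 5, 5, 3, 6, 6, 9, 4, 3,
  2, 3, 4, 5, 5, 5, 4, 3, 2, 3, 4, 6, 3, 2, 3, 2, 0]

theorem prodw_relLast : prodw g relLast = 1 := by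
  have h := g_rel [3, 6, 6, 9, 5, 5, 3, 6, 6, 9, 5, 5, 3, 6, 6, 9, 5, 5, 3, 6, 6, 9, 5, 5, 6, 6, 4,
    3, 2, 3, 4, 5, 5, 5, 4, 3, 2, 3, 4, 6, 3, 2, 3, 2, 0] (by decide +kernel)
  have h6 : g 6 = (g 5)⁻¹ := rfl
  simpa [relLast, prodw, h6] using h

/-- All relators, and the two trivial ones. -/
def words : List (List ℕ) := relA ++ relU ++ [[9, 10], [10, 9], relLast]

theorem prodw_words : ∀ w ∈ words, prodw g w = 1 := by
  intro w hw
  rcases List.mem_append.mp hw with h | h
  · exact g_rel w h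
  · have h910 : g 10 = (g 9)⁻¹ := rfl
    fin_cases h
    exacts [by simp [prodw, h910], by simp [prodw, h910], prodw_relLast]

theorem words_lt : ∀ w ∈ words, ∀ x ∈ w, x < 11 := by decide +kernel

/-- A rotation of a relator or of its inverse; an unused number gives the empty word. -/
def relWord (r : ℕ) : List ℕ :=
  let w := words.getD (Nat.land (Nat.shiftRight r 1) 127) []
  let v := bif Nat.beq (Nat.land r 1) 1 then wi w else w
  v.drop (Nat.shiftRight r 8) ++ v.take (Nat.shiftRight r 8)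

theorem prodw_relWord (r : ℕ) : prodw g (relWord r) = 1 := by
  unfold relWord
  set w := words.getD (Nat.land (Nat.shiftRight r 1) 127) [] with hw
  have h1 : prodw g w = 1 ∧ ∀ x ∈ w, x < 11 := by
    by_cases hj : Nat.land (Nat.shiftRight r 1) 127 < words.length
    · rw [hw, List.getD_eq_getElem _ _ hj]
      exact ⟨prodw_words _ (List.getElem_mem hj), words_lt _ (List.getElem_mem hj)⟩
    · rw [hw, List.getD_eq_default _ _ (Nat.le_of_not_lt hj)]
      exact ⟨rfl, fun x hx => absurd hx List.not_mem_nil⟩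
  set v := (bif Nat.beq (Nat.land r 1) 1 then wi w else w) with hv
  have hv1 : prodw g v = 1 := by
    rw [hv]
    cases Nat.beq (Nat.land r 1) 1
    · exact h1.1
    · rw [cond_true, g_wi h1.2, h1.1, inv_one]
  show prodw g (v.drop (Nat.shiftRight r 8) ++ v.take (Nat.shiftRight r 8)) = 1
  rw [prodw_append]
  refine mul_eq_one_comm.mp ?_
  rw [← prodw_append, List.take_append_drop, hv1]

end

end CfsgLib.ThCert
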