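import Cfsg.Agent.ThCert.Sep
import Cfsg.Agent.ThCert.Words
import Cfsg.Agent.ThCert.SimpleData

/-!
Normal subgroups of `P`: a non-trivial one is transitive on the 819 points and contains the
generators other than `t`, and `u` cannot act on `P` as an inner automorphism.
-/

set_option autoImplicit false
set_option Elab.async false
set_option maxRecDepth 100000
set_option linter.style.haveILetI false
set_option linter.constructorNameAsVariable false

namespace CfsgLib.ThCert

open CfsgLib.CosetEnum CfsgLib.HNCert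

noncomputable section

/-- A packed word of the data. -/
def sdec (n : ℕ) : List ℕ :=
  Nat.rec (motive := fun _ => ℕ → List ℕ) (fun _ => [])
    (fun _ ih n => bif Nat.beq n 0 then [] else Nat.sub (Nat.land n 15) 1 :: ih (Nat.shiftRight n 4))
    24 n

/-- A word moving `0` to the point `p`. -/
def ptWord (p : ℕ) : List ℕ :=
  sdec (Nat.land (Nat.shiftRight SData.ptTab (Nat.mul 96 p))
    (Nat.sub (Nat.pow 2 96) 1))

/-- A word fixing `0` and moving the point `p` to one of the representatives. -/
def toWord (p : ℕ) : List ℕ :=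
  sdec (Nat.land (Nat.shiftRight SData.toTab (Nat.mul 96 p))
    (Nat.sub (Nat.pow 2 96) 1))

/-- The two words of a point. -/
def pointOK (p : ℕ) : Bool :=
  bif Nat.blt p 819 then
    (ptWord p).all (fun x => Nat.blt x 9) && (Nat.beq (walk (ptWord p) 0) p &&
      (Nat.beq p 0 || ((toWord p).all (fun x => Nat.blt x 9) &&
        (Nat.beq (walk (toWord p) 0) 0 &&
          (List.range 3).any fun k =>
            Nat.beq (walk (toWord p) p) (walk (SData.reps.getD k []) 0)))))
  else true

theorem point_ok : allR pointOK 10 0 = true := by decide +kernel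

/-- The word of a piece of the expression of `b`. -/
def piece (k : ℕ) (e : Option (List ℕ)) : List ℕ :=
  match e with
  | none => SData.reps.getD k []
  | some w => w

/-- The expression of `b` by the representative `k`. -/
def bOK (k : ℕ) : Bool :=
  (SData.reps.getD k []).all (fun x => Nat.blt x 9) &&
    ((SData.bExp.getD k []).all (fun e => match e with
      | none => true
      | some w => w.all (fun x => Nat.blt x 9) && Nat.beq (walk w 0) 0) &&
    same [1] ((SData.bExp.getD k []).flatMap (piece k)))

theorem b_ok : ∀ k < 3, bOK k = true := by decide +kernel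

/-- The expression of a generator by two elements of order 13. -/
def xOK (t : ℕ) : Bool :=
  (SData.xWords.getD t []).all (fun x => Nat.blt x 9) &&
    (same (List.replicate 13 (SData.xWords.getD t [])).flatten [] &&
      same (List.replicate 13 (wi (SData.xWords.getD t []) ++ [t])).flatten [])

theorem x_ok : ∀ t < 6, xOK t = true := by decide +kernel

theorem fix_count : (Finset.univ.filter fun i : Fin 819 => walk [1, 2, 0, 1] i = i).card = 19 ∧
    (Finset.univ.filter fun i : Fin 819 => walk [4, 1, 2, 0, 1] i = i).card = 27 := by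
  decide +kernel

theorem all_lt {n : ℕ} {w : List ℕ} (h : w.all (fun x => Nat.blt x n) = true) : ∀ x ∈ w, x < n :=
  fun x hx => Nat.le_of_ble_eq_true (List.all_eq_true.1 h x hx)

theorem flatten_replicate_lt {n m : ℕ} {w : List ℕ} (hw : ∀ x ∈ w, x < n) :
    ∀ x ∈ (List.replicate m w).flatten, x < n := by
  intro x hx
  obtain ⟨l, hl, hxl⟩ := List.mem_flatten.mp hx
  exact hw x (List.eq_of_mem_replicate hl ▸ hxl)

theorem exists_ptWord (p : Fin 819) :
    ∃ w : List ℕ, (∀ x ∈ w, x < 9) ∧ mv pi (prodw pg w) (pt 0) = p := by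
  have h := allR_spec 10 0 point_ok p (Nat.zero_le _) (by omega)
  rw [pointOK, show Nat.blt (p : ℕ) 819 = true from Nat.ble_eq_true_of_le p.isLt, cond_true,
    Bool.and_eq_true, Bool.and_eq_true] at h
  refine ⟨ptWord p, all_lt h.1, Fin.ext ?_⟩
  rw [mv_prodw (all_lt h.1), pt_val (by norm_num)]
  exact Nat.eq_of_beq_eq_true h.2.1

/-- An element fixing all points is trivial. -/
theorem eq_one_of_fix (hB : ABound) {x : P} (h : ∀ p, mv pi x p = p) : x = 1 := by
  have := hB.1
  refine eq_of_imgs full_ok (fun _ _ _ _ => Subgroup.mem_top _) (card_top_le hB)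
    (Subgroup.mem_top _) (Subgroup.mem_top _) ?_
  refine List.map_inj_left.mpr fun e _ => ?_
  rw [h, mv_one]

theorem pi_inj (hB : ABound) : Function.Injective pi := by
  rw [injective_iff_map_eq_one]
  intro x hx
  exact eq_one_of_fix hB fun p => by simp [mv, hx]

/-- A subgroup containing the stabiliser of `0` and moving it is everything. -/
theorem eq_top_of_stab (hB : ABound) (T : Subgroup P)
    (hstab : ∀ x : P, mv pi x (pt 0) = pt 0 → x ∈ T) {x : P} (hx : x ∈ T)
    (hmove : mv pi x (pt 0) ≠ pt 0) : T = ⊤ := by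
  set p := mv pi x (pt 0) with hp
  have hp0 : (p : ℕ) ≠ 0 := fun e => hmove (Fin.ext (by rw [pt_val (by norm_num)]; exact e))
  have h := allR_spec 10 0 point_ok p (Nat.zero_le _) (by omega)
  simp only [pointOK, show Nat.blt (p : ℕ) 819 = true from Nat.ble_eq_true_of_le p.isLt, cond_true,
    Bool.and_eq_true, Bool.or_eq_true, List.any_eq_true, List.mem_range] at h
  obtain ⟨-, -, h | ⟨ht, ht0, k, hk, hrep⟩⟩ := h
  · exact absurd (Nat.eq_of_beq_eq_true h) hp0
  have ht := all_lt ht
  have hb := b_ok k hk
  simp only [bOK, Bool.and_eq_true, List.all_eq_true] at hb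
  obtain ⟨hr, hparts, hsame⟩ := hb
  have hr : ∀ y ∈ SData.reps.getD k [], y < 9 := fun y hy => Nat.le_of_ble_eq_true (hr y hy)
  have htT : prodw pg (toWord p) ∈ T := hstab _ (Fin.ext (by
    rw [mv_prodw ht, pt_val (by norm_num)]; exact Nat.eq_of_beq_eq_true ht0))
  have hrT : prodw pg (SData.reps.getD k []) ∈ T := by
    have e : mv pi (x * prodw pg (toWord p)) (pt 0) =
        mv pi (prodw pg (SData.reps.getD k [])) (pt 0) := by
      rw [mv_mul, ← hp]
      refine Fin.ext ?_
      rw [mv_prodw ht, mv_prodw hr, pt_val (by norm_num)]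
      exact Nat.eq_of_beq_eq_true hrep
    have e' := hstab (x * prodw pg (toWord p) * (prodw pg (SData.reps.getD k []))⁻¹)
      (by rw [mv_mul, e, mv_inv])
    have := mul_mem (inv_mem e') (mul_mem hx htT)
    simpa [mul_assoc] using this
  have hpart : ∀ e ∈ SData.bExp.getD k [], prodw pg (piece k e) ∈ T ∧ ∀ y ∈ piece k e, y < 9 := by
    intro e he
    cases e with
    | none => exact ⟨hrT, hr⟩
    | some w =>
      have hw := hparts _ he
      simp only [Bool.and_eq_true, List.all_eq_true] at hw
      have hwlt : ∀ y ∈ w, y < 9 := fun y hy => Nat.le_of_ble_eq_true (hw.1 y hy)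
      exact ⟨hstab _ (Fin.ext (by
        show (mv pi (prodw pg w) (pt 0)).val = _
        rw [mv_prodw hwlt, pt_val (by norm_num)]
        exact Nat.eq_of_beq_eq_true hw.2)), hwlt⟩
  have hbT : pg 1 ∈ T := by
    have e : prodw pg [1] = prodw pg ((SData.bExp.getD k []).flatMap (piece k)) :=
      eq_of_same_of hB (by simp) (fun y hy => by
        obtain ⟨e, he, hye⟩ := List.mem_flatMap.mp hy
        exact (hpart e he).2 y hye) hsame
    rw [prodw_cons, prodw_nil, mul_one] at e
    rw [e]
    generalize SData.bExp.getD k [] = L at hpart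
    induction L with
    | nil => rw [List.flatMap_nil, prodw_nil]; exact one_mem _
    | cons a L ih =>
      rw [List.flatMap_cons, prodw_append]
      exact mul_mem (hpart a List.mem_cons_self).1
        (ih fun z hz => hpart z (List.mem_cons_of_mem _ hz))
  have hlet : ∀ y < 9, pg y ∈ T := by
    intro y hy
    by_cases h1 : y = 1
    · exact h1 ▸ hbT
    refine hstab _ (Fin.ext ?_)
    have := mv_prodw (w := [y]) (by simpa using hy) (pt 0)
    rw [prodw_cons, prodw_nil, mul_one] at this
    rw [this, pt_val (by norm_num)]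
    interval_cases y
    all_goals first | exact absurd rfl h1 | decide +kernel
  rw [eq_top_iff, ← PresentedGroup.closure_range_of, Subgroup.closure_le]
  rintro _ ⟨a, rfl⟩
  cases a
  · exact hlet 0 (by norm_num)
  · exact hlet 1 (by norm_num)
  · exact hlet 2 (by norm_num)
  · exact hlet 3 (by norm_num)
  · exact hlet 4 (by norm_num)
  · exact hlet 5 (by norm_num)
  · exact hlet 7 (by norm_num)

/-- A non-trivial normal subgroup of `P` has order divisible by 819. -/
theorem dvd_card_of_normal (hB : ABound) (M : Subgroup P) [M.Normal] (hM : M ≠ ⊥) :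
    819 ∣ Nat.card M := by
  classical
  have := hB.1
  obtain ⟨m0, hm0, hmove⟩ : ∃ m ∈ M, mv pi m (pt 0) ≠ pt 0 := by
    by_contra hcon
    push Not at hcon
    refine hM ((Subgroup.eq_bot_iff_forall _).2 fun m hm => eq_one_of_fix hB fun p => ?_)
    obtain ⟨w, -, rfl⟩ := exists_ptWord p
    have h := hcon _ (‹M.Normal›.conj_mem m hm (prodw pg w))
    have h' := congrArg (mv pi (prodw pg w)) h
    rw [← mv_mul] at h'
    rw [← mv_mul]
    simpa [mul_assoc] using h'
  set S : Subgroup P := (MulAction.stabilizer (Equiv.Perm (Fin 819)) (pt 0)).comap pi with hS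
  have hmemS : ∀ x : P, x ∈ S ↔ mv pi x (pt 0) = pt 0 := fun x => by
    rw [hS, Subgroup.mem_comap, MulAction.mem_stabilizer_iff, Equiv.Perm.smul_def, mv,
      Equiv.Perm.inv_eq_iff_eq]
    exact eq_comm
  have htop : S ⊔ M = ⊤ := eq_top_of_stab hB _
    (fun x hx => Subgroup.mem_sup_left ((hmemS x).2 hx)) (Subgroup.mem_sup_right hm0) hmove
  have htrans : ∀ p : Fin 819, ∃ m ∈ M, mv pi m (pt 0) = p := by
    intro p
    obtain ⟨w, -, hw⟩ := exists_ptWord p
    obtain ⟨y, hy, z, hz, hyz⟩ :=
      Subgroup.mem_sup_of_normal_right.1 (htop.symm ▸ Subgroup.mem_top (prodw pg w))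
    refine ⟨z, hz, ?_⟩
    rw [← hyz, mv_mul, (hmemS y).1 hy] at hw
    exact hw
  letI : MulAction M (Fin 819) := MulAction.compHom _ (pi.comp M.subtype)
  have horb : MulAction.orbit M (pt 0) = Set.univ := by
    refine Set.eq_univ_of_forall fun p => ?_
    obtain ⟨m, hm, hmp⟩ := htrans p
    refine ⟨⟨m⁻¹, inv_mem hm⟩, ?_⟩
    show pi m⁻¹ (pt 0) = p
    rw [map_inv]
    exact hmp
  have h := MulAction.index_stabilizer M (pt 0)
  rw [horb, Set.ncard_univ, Nat.card_eq_fintype_card, Fintype.card_fin] at h
  exact h ▸ Subgroup.index_dvd_card _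

/-- A non-trivial normal subgroup of `P` contains all the generators but `t`. -/
theorem gens_mem_of_normal (hB : ABound) (M : Subgroup P) [M.Normal] (hM : M ≠ ⊥) :
    ∀ x < 7, pg x ∈ M := by
  have := hB.1
  have h13 : ∀ y : P, y ^ 13 = 1 → y ∈ M := by
    intro y hy
    rw [← QuotientGroup.eq_one_iff y, ← orderOf_eq_one_iff]
    rcases (Nat.dvd_prime (show Nat.Prime 13 by norm_num)).mp (orderOf_dvd_of_pow_eq_one
      (show (y : P ⧸ M) ^ 13 = 1 by rw [← QuotientGroup.mk_pow, hy]; rfl)) with h | h
    · exact h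
    exfalso
    have hd : 13 ∣ Nat.card (P ⧸ M) := h ▸ orderOf_dvd_natCard _
    have h169 := Nat.mul_dvd_mul hd (dvd_card_of_normal hB M hM)
    rw [← Subgroup.card_eq_card_quotient_mul_card_subgroup, card_P_of hB] at h169
    norm_num at h169
  have key : ∀ t < 6, pg t ∈ M := by
    intro t ht
    have h := x_ok t ht
    simp only [xOK, Bool.and_eq_true] at h
    obtain ⟨hw, h1, h2⟩ := h
    have hw := all_lt hw
    have hwt : ∀ y ∈ wi (SData.xWords.getD t []) ++ [t], y < 9 :=
      app_lt (wi_lt hw) (by simpa using Nat.lt_trans ht (by norm_num))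
    have e1 := eq_of_same_of hB (flatten_replicate_lt hw) (by simp) h1
    have e2 := eq_of_same_of hB (flatten_replicate_lt hwt) (by simp) h2
    rw [prodw_replicate, prodw_nil] at e1 e2
    have h3 := mul_mem (h13 _ e1) (h13 _ e2)
    rwa [prodw_append, pg_wi hw, prodw_cons, prodw_nil, mul_one, mul_inv_cancel_left] at h3
  intro x hx
  interval_cases x
  iterate 6 exact key _ (by norm_num)
  exact inv_mem (key 5 (by norm_num))

/-- No inner automorphism of `P` sends `bcab` to `ebcab`. -/
theorem not_conj (w : P) :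
    w⁻¹ * prodw pg [1, 2, 0, 1] * w ≠ prodw pg [4, 1, 2, 0, 1] := by
  intro e
  have key : ∀ (l : List ℕ), (∀ x ∈ l, x < 9) → ∀ i : Fin 819,
      walk l i = i ↔ mv pi (prodw pg l) i = i := fun l hl i => by
    rw [← mv_prodw hl, Fin.val_inj]
  have h1 : ∀ x ∈ [1, 2, 0, 1], x < 9 := by simp
  have h2 : ∀ x ∈ [4, 1, 2, 0, 1], x < 9 := by simp
  have hc : (Finset.univ.filter fun i : Fin 819 => walk [1, 2, 0, 1] i = i).card =
      (Finset.univ.filter fun i : Fin 819 => walk [4, 1, 2, 0, 1] i = i).card := by
    refine Finset.card_bij' (fun i _ => mv pi w i) (fun i _ => mv pi w⁻¹ i) ?_ ?_ ?_ ?_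
    · intro i hi
      simp only [Finset.mem_filter, Finset.mem_univ, true_and, key _ h1] at hi
      simp only [Finset.mem_filter, Finset.mem_univ, true_and, key _ h2]
      rw [← e, ← mv_mul, ← mul_assoc, mul_inv_cancel_left, mv_mul, hi]
    · intro i hi
      simp only [Finset.mem_filter, Finset.mem_univ, true_and, key _ h2] at hi
      simp only [Finset.mem_filter, Finset.mem_univ, true_and, key _ h1]
      have hk : prodw pg [1, 2, 0, 1] = w * prodw pg [4, 1, 2, 0, 1] * w⁻¹ := by
        rw [← e]; group
      rw [hk, ← mv_mul, ← mul_assoc, inv_mul_cancel_left, mv_mul, hi]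
    · intro i _; exact mv_inv pi w i
    · intro i _; rw [← mv_mul, inv_mul_cancel, mv_one]
  rw [fix_count.1, fix_count.2] at hc
  norm_num at hc

end

end CfsgLib.ThCert
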