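import Cfsg.Agent.ThCert.Calculus

/-!
The right cosets of the image of `P` lie in a listed family of orbits of `P`, closed under `u`:
each orbit is cut by the points into orbits of `D = P_0`, every one of which is met by a translate
`base * C` of `C = ⋃ t D` inside the family.
-/

set_option autoImplicit false
set_option maxRecDepth 100000

namespace CfsgLib.ThCert

open CfsgLib.CosetEnum CfsgLib.HNCert

noncomputable section

/-- The subgroup `⟨a, c, d, e, s, t⟩` of `P`. -/
abbrev DS : Subgroup P := Subgroup.closure (pg '' {x | x < 9 ∧ x ≠ 1})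

/-- Left coset words of `DS` in `C`. -/
structure CosetC (t : ℕ → List ℕ) : Prop where
  t_zero : t 0 = []
  t_lt : ∀ k < 120, ∀ x ∈ t k, x < 11 ∧ x ≠ 1
  tab : ∀ k < 120, ∀ x < 11, x ≠ 1 → ∃ j < 120, ∃ d ∈ DS, g x * prodw g (t k) = prodw g (t j) * emb d

/-- Data of the closure. -/
structure Closure where
  /-- The number of facts. -/
  nF : ℕ
  /-- The number of orbits. -/
  nS : ℕ
  /-- The start of an orbit, its size, generators of its stabiliser, and their chain. -/
  srep : ℕ → ℕ
  sSize : ℕ → ℕ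
  sGens : ℕ → List (ℕ × ℕ)
  sChain : ℕ → List (ℕ × List (List ℕ))
  /-- The forests on the points: depth, generator, and parent or root number. -/
  tree : ℕ → ℕ
  /-- The number of roots. -/
  nR : ℕ
  /-- Base translate of a root and the word of `C`. -/
  rootC : ℕ → ℕ
  rootT : ℕ → ℕ
  /-- The position of a base, and the moves along the word to the root. -/
  cI : ℕ → ℕ
  cA : ℕ → ℕ
  rMoves : ℕ → List (ℕ × ℕ × ℕ × ℕ × ℕ)
  /-- The number of bases and the moves along every word. -/
  nC : ℕ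
  cMoves : ℕ → ℕ → List (ℕ × ℕ × ℕ × ℕ × ℕ)

variable (U : List (List ℕ × List ℕ)) (D : Cert) (Z : Closure) (W : ℕ → List ℕ)

/-- The left coset attached to the right coset of `y`. -/
def Q (y : Cfsg.Spor.Th) : Cfsg.Spor.Th ⧸ KH := ((y⁻¹ : Cfsg.Spor.Th) : Cfsg.Spor.Th ⧸ KH)

theorem Q_eq {a b : Cfsg.Spor.Th} : Q a = Q b ↔ a * b⁻¹ ∈ KH := by
  rw [Q, Q, QuotientGroup.eq, inv_inv]

theorem smul_Q (z y : Cfsg.Spor.Th) : z⁻¹ • Q y = Q (y * z) := by
  rw [Q, Q, MulAction.Quotient.smul_coe, smul_eq_mul, mul_inv_rev]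

/-- The translate starting an orbit. -/
def base (j : ℕ) : Cfsg.Spor.Th := prodw g (D.rep (Z.srep j))

/-- The coset of a position. -/
def F (j : ℕ) (h : P) : Cfsg.Spor.Th ⧸ KH := Q (base D Z j * emb h)

/-- The stabiliser of an orbit start. -/
def SS (j : ℕ) : Subgroup P :=
  KH.comap ((MulAut.conj (base D Z j)).toMonoidHom.comp emb)

theorem mem_SS {j : ℕ} {h : P} :
    h ∈ SS D Z j ↔ base D Z j * emb h * (base D Z j)⁻¹ ∈ KH := Iff.rfl

theorem F_left {j : ℕ} {s : P} (hs : s ∈ SS D Z j) (h : P) : F D Z j (s * h) = F D Z j h := by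
  rw [F, F, Q_eq, map_mul]
  have := (mem_SS D Z).mp hs
  simpa [mul_assoc] using this

/-- The family. -/
def inU (q : Cfsg.Spor.Th ⧸ KH) : Prop := ∃ j < Z.nS, ∃ h : P, q = F D Z j h

/-- A generator of a stabiliser comes from a fact. -/
def okGen (j : ℕ) (e : ℕ × ℕ) : Bool :=
  Nat.blt e.1 Z.nF && (Nat.beq (D.kind e.1) 0 && (Nat.beq (D.fI e.1) (Z.srep j) &&
    (Nat.beq (D.fK e.1) (Z.srep j) &&
      same (dec e.2) (D.wd (D.fA e.1) ++ wi (D.wd (D.fB e.1))))))

/-- An element of a stabiliser as a list of generators. -/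
def genWord (j : ℕ) (L : List ℕ) : List ℕ :=
  L.flatMap fun i => dec ((Z.sGens j).getD i (0, 0)).2

/-- The check of a transversal chain. -/
def okS (j : ℕ) : List (ℕ × List (List ℕ)) → Bool
  | [] => true
  | (b, L) :: C => Nat.blt b 819 && (L.all (fun u => u.all fun i => Nat.blt i (Z.sGens j).length) &&
      (decide ((L.map fun u => walk (genWord Z j u) b).Nodup) &&
        ((C.all fun e => e.2.all fun u => Nat.beq (walk (genWord Z j u) b) b) && okS j C)))

/-- The checks of an orbit. -/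
def okOrb (j : ℕ) : Bool :=
  (Z.sGens j).all (okGen D Z j) && (okS Z j (Z.sChain j) &&
    Nat.beq (Z.sSize j * ((Z.sChain j).map fun e => e.2.length).prod) 634023936)

/-- The code of a point in a forest. -/
def treeAt (j p : ℕ) : ℕ := ext (Z.tree j) p

/-- The end of the moves of a root. -/
def rootEnd (o : ℕ) : Option (List ℕ × ℕ × ℕ) :=
  follow U D Z.nF (Z.rMoves o) (Z.cI (Z.rootC o)) (Z.cA (Z.rootC o))

/-- A point of a forest. -/
def okTree (j p : ℕ) : Bool :=
  bif Nat.blt p 819 then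
    force (treeAt Z j p) fun c => force (Nat.shiftRight c 14) fun d =>
      bif Nat.beq d 0 then
        Nat.blt c Z.nR && (Nat.blt (Z.rootC c) Z.nC && (Nat.blt (Z.rootT c) 120 &&
          match rootEnd U D Z c with
          | none => false
          | some (v, s, h) => decide (v = W (Z.rootT c)) && (Nat.beq s (Z.srep j) &&
              Nat.beq (walk (wi (D.wd h)) 0) p)))
      else
        force (Nat.land (Nat.shiftRight c 10) 15) fun s => force (Nat.land c 1023) fun u =>
          Nat.blt u 819 && (Nat.blt s (Z.sGens j).length &&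
            (Nat.beq (walk (dec ((Z.sGens j).getD s (0, 0)).2) u) p &&
              Nat.blt (Nat.shiftRight (treeAt Z j u) 14) d))
  else true

/-- The translate of a base along a word stays in the family. -/
def okPath (c k : ℕ) : Bool :=
  match follow U D Z.nF (Z.cMoves c k) (Z.cI c) (Z.cA c) with
  | none => false
  | some (v, s, _) => decide (v = W k) && (List.range Z.nS).any fun j => Nat.beq s (Z.srep j)

/-- What the checks of the closure give. -/
structure Checked : Prop where
  facts : ∀ i < Z.nF, checkFact U D i = true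
  orb : ∀ j < Z.nS, okOrb D Z j = true
  tree : ∀ j < Z.nS, ∀ p < 819, okTree U D Z W j p = true
  path : ∀ c < Z.nC, ∀ k < 120, okPath U D Z W c k = true
  zero : 0 < Z.nS ∧ Z.srep 0 = 0
  conj : Conj U
  coset : CosetC W

variable {U D Z W}

theorem gen_mem (H : Checked U D Z W) {j : ℕ} (hj : j < Z.nS) {e : ℕ × ℕ} (he : e ∈ Z.sGens j) :
    el e.2 ∈ SS D Z j := by
  have h := H.orb j hj
  simp only [okOrb, Bool.and_eq_true, List.all_eq_true] at h
  have h' := h.1 e he
  simp only [okGen, Bool.and_eq_true, Nat.blt_eq] at h'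
  obtain ⟨hf, hk, hI, hK, hw⟩ := h'
  have hS := says_of_check H.conj H.facts _ hf
  rw [Says, Nat.eq_of_beq_eq_true hk, if_neg (by norm_num), mul_one, Cert.pos, Cert.pos,
    Nat.eq_of_beq_eq_true hI, Nat.eq_of_beq_eq_true hK] at hS
  have e' := eq_of_same_of H.conj.bound (dec_lt _) (app_lt (D.wd_lt _) (wi_lt (D.wd_lt _))) hw
  rw [prodw_append, pg_wi (D.wd_lt _)] at e'
  rw [mem_SS, el, e', map_mul, map_inv, base]
  simpa [mul_assoc, el, Cert.wd] using hS

theorem genWord_lt (j : ℕ) (L : List ℕ) : ∀ x ∈ genWord Z j L, x < 9 := by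
  intro x hx
  obtain ⟨i, -, hi⟩ := List.mem_flatMap.mp hx
  exact dec_lt _ x hi

theorem genWord_mem (H : Checked U D Z W) {j : ℕ} (hj : j < Z.nS) :
    ∀ L : List ℕ, (∀ i ∈ L, i < (Z.sGens j).length) → prodw pg (genWord Z j L) ∈ SS D Z j
  | [], _ => by rw [genWord, List.flatMap_nil, prodw_nil]; exact one_mem _
  | i :: L, h => by
    rw [genWord, List.flatMap_cons, prodw_append]
    refine mul_mem ?_ (genWord_mem H hj L fun k hk => h k (List.mem_cons_of_mem _ hk))
    have hi := h i List.mem_cons_self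
    rw [List.getD_eq_getElem _ _ hi]
    exact gen_mem H hj (List.getElem_mem hi)

theorem ok_sC (H : Checked U D Z W) {j : ℕ} (hj : j < Z.nS) :
    ∀ C : List (ℕ × List (List ℕ)), okS Z j C = true →
      Ok pi (C.map fun e => (pt e.1, e.2.map fun L => prodw pg (genWord Z j L))) ∧
        ∀ e ∈ C, ∀ u ∈ e.2, prodw pg (genWord Z j u) ∈ SS D Z j
  | [], _ => ⟨trivial, by simp⟩
  | (b, L) :: C, h => by
    simp only [okS, Bool.and_eq_true, Nat.blt_eq, List.all_eq_true, decide_eq_true_eq] at h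
    obtain ⟨hb, hi, hn, hf, hD⟩ := h
    obtain ⟨h1, h2⟩ := ok_sC H hj C hD
    refine ⟨⟨?_, ?_, h1⟩, ?_⟩
    · refine List.Nodup.of_map (fun i : Fin 819 => i.val) ?_
      rw [List.map_map, List.map_map]
      convert hn using 2
      funext u
      show (mv pi (prodw pg (genWord Z j u)) (pt b)).val = _
      rw [mv_prodw (genWord_lt j u), pt_val hb]
    · intro e he u hu
      obtain ⟨e', he', rfl⟩ := List.mem_map.mp he
      obtain ⟨u', hu', rfl⟩ := List.mem_map.mp hu
      refine Fin.ext ?_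
      rw [mv_prodw (genWord_lt j u'), pt_val hb]
      exact Nat.eq_of_beq_eq_true (hf e' he' u' hu')
    · intro e he u hu
      rcases List.mem_cons.mp he with rfl | he
      exacts [genWord_mem H hj u (hi u hu), h2 e he u hu]

theorem le_card_SS (H : Checked U D Z W) {j : ℕ} (hj : j < Z.nS) :
    634023936 ≤ Z.sSize j * Nat.card (SS D Z j) := by
  have := H.conj.bound.1
  have h := H.orb j hj
  simp only [okOrb, Bool.and_eq_true] at h
  obtain ⟨-, hS, hz⟩ := h
  obtain ⟨h1, h2⟩ := ok_sC H hj _ hS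
  have h := size_le (W := SS D Z j) h1 (fun e he u hu => by
    obtain ⟨e', he', rfl⟩ := List.mem_map.mp he
    obtain ⟨u', hu', rfl⟩ := List.mem_map.mp hu
    exact h2 e' he' u' hu')
  have hs : ∀ C : List (ℕ × List (List ℕ)),
      size (C.map fun e => (pt e.1, e.2.map fun L => prodw pg (genWord Z j L))) =
        (C.map fun e => e.2.length).prod := by
    intro C
    induction C with
    | nil => rfl
    | cons e C ih =>
      show size (C.map _) * _ = _
      rw [ih, List.length_map, List.map_cons, List.prod_cons, mul_comm]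
  rw [hs] at h
  rw [← Nat.eq_of_beq_eq_true hz]
  exact Nat.mul_le_mul_left _ h

theorem index_SS_le (H : Checked U D Z W) {j : ℕ} (hj : j < Z.nS) :
    (SS D Z j).index ≤ Z.sSize j := by
  have := H.conj.bound.1
  have h := le_card_SS H hj
  have h2 := Subgroup.index_mul_card (SS D Z j)
  rw [card_P_of H.conj.bound] at h2
  have hpos : 0 < Nat.card (SS D Z j) := Nat.card_pos
  exact Nat.le_of_mul_le_mul_right (h2.le.trans h) hpos

variable (W) in
/-- The union of the cosets `t D`. -/
def CS : Set Cfsg.Spor.Th := {x | ∃ k < 120, ∃ d ∈ DS, x = prodw g (W k) * emb d}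

theorem one_mem_CS (H : Checked U D Z W) : (1 : Cfsg.Spor.Th) ∈ CS W :=
  ⟨0, by norm_num, 1, one_mem _, by rw [H.coset.t_zero, prodw_nil, map_one, one_mul]⟩

theorem letter_mul_CS (H : Checked U D Z W) {x : ℕ} (hx : x < 11) (hx1 : x ≠ 1) {y : Cfsg.Spor.Th} (hy : y ∈ CS W) :
    g x * y ∈ CS W := by
  obtain ⟨k, hk, d, hd, rfl⟩ := hy
  obtain ⟨j, hj, d', hd', e⟩ := H.coset.tab k hk x hx hx1
  exact ⟨j, hj, d' * d, mul_mem hd' hd, by rw [← mul_assoc, e, map_mul, mul_assoc]⟩

theorem word_mul_CS (H : Checked U D Z W) : ∀ w : List ℕ, (∀ x ∈ w, x < 11 ∧ x ≠ 1) → ∀ y ∈ CS W,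
    prodw g w * y ∈ CS W
  | [], _, y, hy => by rwa [prodw_nil, one_mul]
  | x :: w, h, y, hy => by
    rw [prodw_cons, mul_assoc]
    exact letter_mul_CS H (h x List.mem_cons_self).1 (h x List.mem_cons_self).2
      (word_mul_CS H w (fun z hz => h z (List.mem_cons_of_mem _ hz)) y hy)

theorem ds_mul_CS (H : Checked U D Z W) {d : P} (hd : d ∈ DS) :
    ∀ y ∈ CS W, emb d * y ∈ CS W := by
  induction hd using Subgroup.closure_induction'' with
  | mem z hz =>
    obtain ⟨x, ⟨hx, hx1⟩, rfl⟩ := hz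
    intro y hy
    rw [emb_pg hx]
    exact letter_mul_CS H (by omega) hx1 hy
  | inv_mem z hz =>
    obtain ⟨x, ⟨hx, hx1⟩, rfl⟩ := hz
    intro y hy
    rw [← pg_iv' hx, emb_pg (iv_lt_nine hx)]
    refine letter_mul_CS H (iv_lt_eleven (x := x) (by omega)) ?_ hy
    interval_cases x <;> first | exact absurd rfl hx1 | decide
  | one => intro y hy; rwa [map_one, one_mul]
  | mul a b _ _ ha hb =>
    intro y hy
    rw [map_mul, mul_assoc]
    exact ha _ (hb y hy)

theorem CS_in_U (H : Checked U D Z W) {c : ℕ} (hc : c < Z.nC) {y : Cfsg.Spor.Th} (hy : y ∈ CS W) :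
    inU D Z (Q (D.pos (Z.cI c) (Z.cA c) * y)) := by
  obtain ⟨k, hk, d, -, rfl⟩ := hy
  have h := H.path c hc k hk
  rw [okPath] at h
  rcases hf : follow U D Z.nF (Z.cMoves c k) (Z.cI c) (Z.cA c) with _ | ⟨v, s, b⟩
  · simp [hf] at h
  rw [hf] at h
  simp only [Bool.and_eq_true, decide_eq_true_eq, List.any_eq_true, List.mem_range] at h
  obtain ⟨rfl, j, hj, hs⟩ := h
  have hv := follow_sound H.conj (says_of_check H.conj H.facts) _ _ _ _ _ _ hf
  rw [Nat.eq_of_beq_eq_true hs] at hv
  refine ⟨j, hj, el (D.word b) * d, ?_⟩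
  rw [F, Q_eq, map_mul, base]
  simp only [Cert.pos] at hv ⊢
  simpa [mul_assoc] using hv

theorem inU_u (H : Checked U D Z W) {j : ℕ} (hj : j < Z.nS) (h : P) {x : ℕ} (hx : x = 9 ∨ x = 10) :
    inU D Z ((g x)⁻¹ • F D Z j h) := by
  suffices key : ∀ d p, p < 819 → Nat.shiftRight (treeAt Z j p) 14 = d →
      ∀ h : P, (mv pi h⁻¹ (pt 0)).val = p → inU D Z ((g x)⁻¹ • F D Z j h) from
    key _ _ (mv pi h⁻¹ (pt 0)).isLt rfl h rfl
  intro d
  induction d using Nat.strong_induction_on with
  | _ d ih =>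
    intro p hp hd h hh
    have hok := H.tree j hj p hp
    rw [okTree, show Nat.blt p 819 = true from Nat.ble_eq_true_of_le hp, cond_true, force_eq,
      force_eq, hd] at hok
    cases h0 : Nat.beq d 0
    · simp only [h0, cond_false, force_eq, Bool.and_eq_true, Nat.blt_eq] at hok
      obtain ⟨hu, hs, hw, hlt⟩ := hok
      set s := Nat.land (Nat.shiftRight (treeAt Z j p) 10) 15
      set v := Nat.land (treeAt Z j p) 1023
      rw [List.getD_eq_getElem _ _ hs] at hw
      rw [← F_left D Z (gen_mem H hj (List.getElem_mem hs)) h]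
      refine ih _ hlt v hu rfl _ ?_
      rw [mul_inv_rev, mv_mul]
      have hp' : mv pi h⁻¹ (pt 0) = mv pi (el ((Z.sGens j)[s]).2) ⟨v, hu⟩ := by
        refine Fin.ext ?_
        rw [el, mv_prodw (dec_lt _), hh]
        exact (Nat.eq_of_beq_eq_true hw).symm
      rw [hp', mv_inv]
    · simp only [h0, cond_true, Bool.and_eq_true, Nat.blt_eq] at hok
      obtain ⟨-, hc, hk, hr⟩ := hok
      set o := treeAt Z j p
      rcases hf : rootEnd U D Z o with _ | ⟨v, s, b⟩
      · simp [hf] at hr
      rw [hf] at hr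
      simp only [Bool.and_eq_true, decide_eq_true_eq] at hr
      obtain ⟨rfl, hs, hw⟩ := hr
      rw [rootEnd] at hf
      have hv := follow_sound H.conj (says_of_check H.conj H.facts) _ _ _ _ _ _ hf
      have hfix : (el (D.word b))⁻¹ * h ∈ DS := by
        refine mem_of_fix_zero H.conj.bound ?_
        rw [mv_mul]
        have h2 := mv_prodw (wi_lt (D.wd_lt b)) (pt 0)
        rw [pg_wi (D.wd_lt _)] at h2
        have h3 : mv pi (el (D.word b))⁻¹ (pt 0) = mv pi h⁻¹ (pt 0) := by
          refine Fin.ext ?_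
          rw [hh]
          exact h2.trans (by rw [pt_val (by norm_num)]; exact Nat.eq_of_beq_eq_true hw)
        rw [h3, ← mv_mul, inv_mul_cancel, mv_one]
      have hxCS : g x ∈ CS W := by
        have := letter_mul_CS H (x := x) (by omega) (by omega) (one_mem_CS H)
        rwa [mul_one] at this
      have hCS : prodw g (W (Z.rootT o)) * (emb ((el (D.word b))⁻¹ * h) * g x) ∈ CS W :=
        word_mul_CS H _ (H.coset.t_lt _ hk) _ (ds_mul_CS H hfix _ hxCS)
      have hU := CS_in_U H hc hCS
      rw [Nat.eq_of_beq_eq_true hs, Cert.pos, Cert.pos] at hv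
      suffices e : Q (D.pos (Z.cI (Z.rootC o)) (Z.cA (Z.rootC o)) *
          (prodw g (W (Z.rootT o)) * (emb ((el (D.word b))⁻¹ * h) * g x))) =
          (g x)⁻¹ • F D Z j h by rwa [e] at hU
      rw [F, smul_Q, Q_eq, map_mul, map_inv, base, Cert.pos]
      simpa [mul_assoc] using hv

theorem inU_all (H : Checked U D Z W) (y : Cfsg.Spor.Th) : inU D Z (Q y) := by
  have hclosed : ∀ q, inU D Z q → ∀ i < 11, inU D Z ((g i)⁻¹ • q) := by
    intro q hq i hi
    obtain ⟨j, hj, h, rfl⟩ := hq
    rcases Nat.lt_or_ge i 9 with h9 | h9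
    · refine ⟨j, hj, h * pg i, ?_⟩
      rw [F, F, smul_Q, map_mul, emb_pg h9, mul_assoc]
    · exact inU_u H hj h (by omega)
  have hgen : y ∈ Subgroup.closure (g '' {i | i < 11}) := by
    have : (⊤ : Subgroup Cfsg.Spor.Th) ≤ Subgroup.closure (g '' {i | i < 11}) := by
      rw [← PresentedGroup.closure_range_of, Subgroup.closure_le]
      rintro _ ⟨a, rfl⟩
      cases a
      exacts [Subgroup.subset_closure ⟨0, by decide, rfl⟩, Subgroup.subset_closure ⟨1, by decide, rfl⟩,
        Subgroup.subset_closure ⟨2, by decide, rfl⟩, Subgroup.subset_closure ⟨3, by decide, rfl⟩,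
        Subgroup.subset_closure ⟨4, by decide, rfl⟩, Subgroup.subset_closure ⟨5, by decide, rfl⟩,
        Subgroup.subset_closure ⟨7, by decide, rfl⟩, Subgroup.subset_closure ⟨9, by decide, rfl⟩]
    exact this (Subgroup.mem_top y)
  have h1 : inU D Z (Q 1) := by
    refine ⟨0, H.zero.1, 1, ?_⟩
    rw [F, base, H.zero.2, D.rep_zero, prodw_nil, map_one, one_mul]
  suffices key : ∀ z ∈ Subgroup.closure (g '' {i | i < 11}), ∀ q, inU D Z q → inU D Z (z⁻¹ • q) by
    have := key y hgen _ h1
    rwa [smul_Q, one_mul] at this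
  intro z hz
  induction hz using Subgroup.closure_induction'' with
  | mem z hz => obtain ⟨i, hi, rfl⟩ := hz; exact fun q hq => hclosed q hq i hi
  | inv_mem z hz =>
    obtain ⟨i, hi, rfl⟩ := hz
    intro q hq
    rw [← g_iv' hi]
    exact hclosed q hq _ (iv_lt_eleven hi)
  | one => exact fun q hq => by rwa [inv_one, one_smul]
  | mul a b _ _ ha hb =>
    intro q hq
    rw [mul_inv_rev, mul_smul]
    exact hb _ (ha q hq)

variable (D Z) in
/-- A coset from a position in an orbit. -/
def cover (x : Σ j : Fin Z.nS, P ⧸ SS D Z j.val) : Cfsg.Spor.Th ⧸ KH :=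
  F D Z x.1.val (x.2.out)⁻¹

theorem cover_surjective (H : Checked U D Z W) : Function.Surjective (cover D Z) := by
  intro q
  induction q using QuotientGroup.induction_on with
  | _ y =>
    have h := inU_all H y⁻¹
    rw [Q, inv_inv] at h
    obtain ⟨j, hj, h, e⟩ := h
    refine ⟨⟨⟨j, hj⟩, ((h⁻¹ : P) : P ⧸ SS D Z j)⟩, ?_⟩
    obtain ⟨s, hs⟩ := QuotientGroup.mk_out_eq_mul (SS D Z j) h⁻¹
    rw [e, cover]
    show F D Z j ((((h⁻¹ : P) : P ⧸ SS D Z j).out)⁻¹) = F D Z j h
    rw [hs, mul_inv_rev, inv_inv]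
    exact F_left D Z (inv_mem s.2) h

theorem finite_quot (H : Checked U D Z W) : Finite (Cfsg.Spor.Th ⧸ KH) :=
  haveI := H.conj.bound.1
  Finite.of_surjective _ (cover_surjective H)

theorem index_le (H : Checked U D Z W) :
    KH.index ≤ ∑ j : Fin Z.nS, Z.sSize j.val := by
  have := H.conj.bound.1
  have h := Nat.card_le_card_of_surjective _ (cover_surjective H)
  refine h.trans ?_
  rw [Nat.card_sigma]
  exact Finset.sum_le_sum fun j _ => index_SS_le H j.isLt

theorem card_le (H : Checked U D Z W) : Finite Cfsg.Spor.Th ∧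
    Nat.card Cfsg.Spor.Th ≤ (∑ j : Fin Z.nS, Z.sSize j.val) * 634023936 := by
  have := finite_quot H
  have := H.conj.bound.1
  have hK : Nat.card KH ≤ 634023936 :=
    (Nat.card_le_card_of_surjective _ emb.rangeRestrict_surjective).trans (card_P_of H.conj.bound).le
  have hfin : Finite KH := Finite.of_surjective _ emb.rangeRestrict_surjective
  refine ⟨Finite.of_equiv _ (Subgroup.groupEquivQuotientProdSubgroup (s := KH)).symm, ?_⟩
  rw [← Subgroup.index_mul_card KH]
  exact Nat.mul_le_mul (index_le H) hK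

end

end CfsgLib.ThCert
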